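import Cfsg.Agent.Lib.PresentSL2.OddCases

/-!
Presentations of `SL₂(2^e)` on three generators with five relations.
-/

set_option autoImplicit false

namespace CfsgLib.PresentSL2

open Matrix Polynomial
open scoped MatrixGroups

/-- In a group satisfying the five relations with `u² = 1` and `hᵐ = 1` the word vanishes. -/
theorem word_eq_one {G : Type*} [Group G] {u h t : G} {m k : ℕ} (M : ℤ[X]) (hu : u ^ 2 = 1)
    (hh : h ^ m = 1) (hm : Odd m) (hht : t * h * t⁻¹ = h⁻¹)
    (h3 : (u * t) ^ 3 = ev h u M) (hb : h ^ k * u * (h ^ k)⁻¹ = u * cj h u 1) :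
    (∀ n, Commute u (cj h u n)) ∧ ev h u M = 1 := by
  have h01 : Commute u (cj h u 1) := by
    have hv : cj h u 1 * cj h u 1 = 1 := by
      rw [cj, ← pow_two, conj_pow, hu, mul_one, mul_inv_cancel]
    have hsq : (u * cj h u 1) * (u * cj h u 1) = 1 := by
      rw [← hb, ← pow_two, conj_pow, hu, mul_one, mul_inv_cancel]
    show u * cj h u 1 = cj h u 1 * u
    rw [eq_inv_of_mul_eq_one_left hsq, _root_.mul_inv_rev, inv_eq_of_mul_eq_one_right hv,
      inv_eq_of_mul_eq_one_right (show u * u = 1 by rw [← pow_two, hu])]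
  have hcomm := commute_cj ((Commute.refl h).pow_right k) h01 hb
  refine ⟨hcomm, ?_⟩
  obtain ⟨Ψ⟩ := nonempty_polyHom h u hcomm
  have hΨcomm : ∀ A B : ℤ[X], Commute (Ψ.toHom (Multiplicative.ofAdd A))
      (Ψ.toHom (Multiplicative.ofAdd B)) := fun A B => (Commute.all _ _).map Ψ.toHom
  have huΨ : ∀ A : ℤ[X], Commute u (Ψ.toHom (Multiplicative.ofAdd A)) := fun A => by
    have := hΨcomm 1 A
    rwa [Ψ.apply_one] at this
  have hconj : ∀ (l : ℕ) (A : ℤ[X]), h ^ l * Ψ.toHom (Multiplicative.ofAdd A) * (h ^ l)⁻¹ =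
      Ψ.toHom (Multiplicative.ofAdd (X ^ l * A)) := by
    intro l A
    induction l with
    | zero => simp
    | succ l ih => rw [pow_succ' X, mul_assoc X, ← Ψ.shift, ← ih, pow_succ' h]; group
  rw [Ψ.ev_eq] at h3 ⊢
  obtain ⟨j, rfl⟩ := hm
  have hinv : h⁻¹ = h ^ (2 * j) := inv_eq_of_mul_eq_one_right (by rw [← pow_succ', hh])
  have hWu := (huΨ M).symm
  have hWut : Commute (Ψ.toHom (Multiplicative.ofAdd M)) (u * t) := by
    rw [← h3]; exact (Commute.refl _).pow_left 3
  set W := Ψ.toHom (Multiplicative.ofAdd M) with hW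
  have hWt : Commute W t := by
    have := hWu.inv_right.mul_right hWut
    rwa [inv_mul_cancel_left] at this
  set x := h * W * h⁻¹ with hx
  set y := h⁻¹ * W * h with hy
  have hux : Commute u x := by
    have := huΨ (X * M); rwa [← Ψ.shift] at this
  have huy : Commute u y := by
    have := huΨ (X ^ (2 * j) * M)
    rwa [← hconj, ← hinv, inv_inv] at this
  have hWx : Commute W x := by
    have := hΨcomm M (X * M); rwa [← Ψ.shift] at this
  have htx : t * x * t⁻¹ = y := by
    calc t * x * t⁻¹ = (t * h * t⁻¹) * (t * W * t⁻¹) * (t * h * t⁻¹)⁻¹ := by rw [hx]; group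
      _ = y := by rw [hht, ← hWt.eq, mul_inv_cancel_right, hy, inv_inv]
  have hty : t * y * t⁻¹ = x := by
    calc t * y * t⁻¹ = (t * h * t⁻¹)⁻¹ * (t * W * t⁻¹) * (t * h * t⁻¹) := by rw [hy]; group
      _ = x := by rw [hht, ← hWt.eq, mul_inv_cancel_right, hx, inv_inv]
  have cux : (u * t) * x * (u * t)⁻¹ = y := by
    calc (u * t) * x * (u * t)⁻¹ = u * (t * x * t⁻¹) * u⁻¹ := by group
      _ = y := by rw [htx, huy.eq, mul_inv_cancel_right]
  have cuy : (u * t) * y * (u * t)⁻¹ = x := by
    calc (u * t) * y * (u * t)⁻¹ = u * (t * y * t⁻¹) * u⁻¹ := by group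
      _ = x := by rw [hty, hux.eq, mul_inv_cancel_right]
  have hxy : x = y := by
    have h1 : W * x * W⁻¹ = y := by
      rw [← h3]
      calc (u * t) ^ 3 * x * ((u * t) ^ 3)⁻¹
          = (u * t) * ((u * t) * ((u * t) * x * (u * t)⁻¹) * (u * t)⁻¹) * (u * t)⁻¹ := by
            rw [pow_three]; group
        _ = y := by rw [cux, cuy, cux]
    rwa [hWx.eq, mul_inv_cancel_right] at h1
  have h2W : Commute (h ^ 2) W := by
    show h ^ 2 * W = W * h ^ 2
    have := congrArg (fun z => h * z * h) hxy
    simp only [hx, hy] at this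
    calc h ^ 2 * W = h * (h * W * h⁻¹) * h := by rw [pow_two]; group
      _ = h * (h⁻¹ * W * h) * h := this
      _ = W * h ^ 2 := by rw [pow_two]; group
  have hhW : Commute h W := by
    have := h2W.pow_left (j + 1)
    rwa [← pow_mul, show 2 * (j + 1) = 2 * j + 1 + 1 by ring, pow_succ, hh, one_mul] at this
  have hkey : ∀ P : ℤ[X], h ^ k * Ψ.toHom (Multiplicative.ofAdd P) * (h ^ k)⁻¹ =
      Ψ.toHom (Multiplicative.ofAdd P) * Ψ.toHom (Multiplicative.ofAdd (X * P)) := by
    intro P
    induction P using Polynomial.induction_on' with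
    | add A B hA hB =>
      rw [mul_add, ofAdd_add, ofAdd_add, map_mul, map_mul]
      calc h ^ k * (Ψ.toHom (Multiplicative.ofAdd A) * Ψ.toHom (Multiplicative.ofAdd B)) * (h ^ k)⁻¹
          = (h ^ k * Ψ.toHom (Multiplicative.ofAdd A) * (h ^ k)⁻¹) *
            (h ^ k * Ψ.toHom (Multiplicative.ofAdd B) * (h ^ k)⁻¹) := by group
        _ = _ := by rw [hA, hB]; exact (hΨcomm (X * A) B).mul_mul_mul_comm _ _
    | monomial l z =>
      have hl : h ^ k * cj h u l * (h ^ k)⁻¹ = cj h u l * cj h u (l + 1) := by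
        have e := Commute.pow_pow (Commute.refl h) k l
        calc h ^ k * cj h u l * (h ^ k)⁻¹ = (h ^ k * h ^ l) * u * (h ^ k * h ^ l)⁻¹ := by
              simp only [cj]; group
          _ = h ^ l * (h ^ k * u * (h ^ k)⁻¹) * (h ^ l)⁻¹ := by rw [e.eq]; group
          _ = _ := by rw [hb, cj_add h u l 1]; simp only [cj]; group
      rw [X_mul, monomial_mul_X, Ψ.monomial, Ψ.monomial, ← conj_zpow, hl, Commute.mul_zpow]
      have := hΨcomm (X ^ l) (X ^ (l + 1))
      rwa [Ψ.X_pow, Ψ.X_pow] at this
  have hfix := hkey M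
  rw [← hW, (hhW.pow_left k).eq, mul_inv_cancel_right, ← Ψ.shift, ← hW, hhW.eq,
    mul_inv_cancel_right] at hfix
  exact mul_eq_left.1 hfix.symm

variable {F : Type*} [Field F] [Fintype F] [CharP F 2]

theorem char2_wSL_sq : (wSL : SL(2, F)) * wSL = 1 := by
  rw [wSL_sq, show (-1 : Fˣ) = 1 from Units.ext (by simp [CharTwo.neg_eq]), map_one]

theorem char2_ut : ((uu (1 : F)) * wSL : SL(2, F)) ^ 3 = 1 := by
  rw [pow_three]
  apply Subtype.ext
  show !![1, (1 : F); 0, 1] * !![0, 1; -1, 0] * ((!![1, (1 : F); 0, 1] * !![0, 1; -1, 0]) *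
    (!![1, (1 : F); 0, 1] * !![0, 1; -1, 0])) = (1 : Matrix (Fin 2) (Fin 2) F)
  ext i j
  fin_cases i <;> fin_cases j <;>
    simp [Matrix.mul_apply, Fin.sum_univ_two, CharTwo.neg_eq, CharTwo.add_self_eq_zero]

theorem card_SL_char2 :
    Nat.card SL(2, F) = Fintype.card F * (Fintype.card F - 1) * (Fintype.card F + 1) := by
  rw [CfsgLib.Linear.card_SL_two, mul_assoc]
  congr 1
  rw [mul_comm, ← Nat.sq_sub_sq, one_pow]

theorem presentation_even :
    ∃ rels : Finset (FreeGroup (Fin 3)), rels.card ≤ 5 ∧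
      Nonempty (PresentedGroup (↑rels : Set (FreeGroup (Fin 3))) ≃* SL(2, F)) := by
  classical
  haveI : Fact (Nat.Prime 2) := ⟨Nat.prime_two⟩
  obtain ⟨e, -, hF⟩ := FiniteField.card F 2
  obtain ⟨w, hw⟩ := exists_gen (F := F)
  have hq : 1 < Fintype.card F := Fintype.one_lt_card
  set q := Fintype.card F with hqdef
  have ho : orderOf w = q - 1 := by
    rw [orderOf_eq_card_of_forall_mem_zpowers hw, Nat.card_units, Nat.card_eq_fintype_card]
  have hodd : Odd (q - 1) := by
    rw [Nat.odd_iff]
    have : 2 ∣ q := hF ▸ dvd_pow_self 2 e.pos.ne'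
    omega
  -- the square of a generator is a generator
  have hgen2 : ∀ a : F, a ≠ 0 → ∃ n : ℕ, a = ((w : F) * w) ^ n := by
    intro a ha
    have hcop : (orderOf w).Coprime 2 := by rw [ho]; exact (Nat.coprime_two_right).2 hodd
    have h := hw (Units.mk0 a ha)
    rw [← mem_powers_iff_mem_zpowers] at h
    obtain ⟨l, hl⟩ := h
    obtain ⟨j, hj⟩ := hodd
    refine ⟨l * (j + 1), ?_⟩
    have hl' : (w : F) ^ l = a := by
      rw [← Units.val_pow_eq_pow_val, show w ^ l = Units.mk0 a ha from hl]; rfl
    have h1 : (w : F) ^ (2 * j + 1) = 1 := by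
      rw [← hj, ← ho, ← Units.val_pow_eq_pow_val, pow_orderOf_eq_one, Units.val_one]
    rw [← sq, ← pow_mul, show 2 * (l * (j + 1)) = l + (2 * j + 1) * l by ring, pow_add, pow_mul,
      h1, one_pow, mul_one, hl']
  have hgN : ((w : F) * w) ^ (q - 1) = 1 := by
    rw [mul_pow, ← ho, ← Units.val_pow_eq_pow_val, pow_orderOf_eq_one, Units.val_one, one_mul]
  set g := (w : F) * w with hgdef
  obtain ⟨D⟩ := exists_polyData (p := 2) hF (x := g) (fun d hd1 hd2 hfix => by
    have h1 : ∀ a : F, a ^ 2 ^ d = a := by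
      intro a
      by_cases ha : a = 0
      · rw [ha, zero_pow (by positivity)]
      · obtain ⟨n, rfl⟩ := hgen2 a ha
        rw [← pow_mul, mul_comm, pow_mul, hfix]
    have hsub : (Finset.univ : Finset F) ⊆ (X ^ 2 ^ d - X : F[X]).roots.toFinset := fun a _ => by
      rw [Multiset.mem_toFinset,
        mem_roots (FiniteField.X_pow_card_pow_sub_X_ne_zero F (by omega) one_lt_two)]
      simp [h1 a]
    have := (Finset.card_le_card hsub).trans ((Multiset.toFinset_card_le _).trans (card_roots' _))
    rw [FiniteField.X_pow_card_pow_sub_X_natDegree_eq F (by omega) one_lt_two, Finset.card_univ,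
      ← hqdef, hF] at this
    have := (Nat.pow_le_pow_iff_right one_lt_two).1 this
    omega)
  let d : Data F 2 := ⟨w, hw, g, 1, pow_one _, D⟩
  have hclo : Subgroup.closure {uu (1 : F), dSL w, wSL} = (⊤ : Subgroup SL(2, F)) := d.closure_target
  have hshift : ∀ z, dSL w * uSL (Multiplicative.ofAdd z) * (dSL w)⁻¹ =
      uSL (Multiplicative.ofAdd (g * z)) := fun z => dSL_uu w z
  have hDN : (dSL w : SL(2, F)) ^ (q - 1) = 1 := by rw [← map_pow, ← ho, pow_orderOf_eq_one, map_one]
  have hevM : ev (dSL w) (uu (1 : F)) D.M = 1 := by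
    have := d.ev_target (MonoidHom.id SL(2, F)) D.M
    simp only [MonoidHom.id_apply] at this
    rw [show d.i = 1 from rfl, pow_one, show d.x = g from rfl, D.root, uu_zero] at this
    exact this
  have hbound : ∀ (G : Type) [Group G] (u h t : G), Subgroup.closure {u, h, t} = ⊤ →
      IsFieldHom g h u → h ^ (q - 1) = 1 → t * h * t⁻¹ = h⁻¹ → t * t = 1 → u * u = 1 →
      (u * t) ^ 3 = 1 → Finite G ∧ Nat.card G ≤ Nat.card SL(2, F) := by
    intro G _ u h t hgen hΦ hhN hht ht2 hu h3
    rw [card_SL_char2]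
    refine card_le hgen hΦ (by omega) hhN hgN hht ⟨0, by rw [ht2, pow_zero]⟩ {1} ?_ ?_
    · intro a ha
      obtain ⟨n, hn⟩ := hgen2 a ha
      exact ⟨1, Finset.mem_singleton_self _, n, by rw [hn, mul_one]⟩
    · intro b hb Φ h1 _
      rw [Finset.mem_singleton] at hb
      subst hb
      refine ⟨1, 0, ?_⟩
      rw [h1, pow_zero, mul_one, inv_eq_of_mul_eq_one_right ht2]
      rw [pow_three] at h3
      calc t * u * t = (u * u) * (t * u * t) * (u * (t * t) * u) := by rw [hu, ht2, mul_one, hu]; group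
        _ = u * ((u * t) * ((u * t) * (u * t))) * (t * u) := by group
        _ = u * t * u := by rw [h3]; group
  by_cases h2 : q = 2
  · obtain ⟨rels, hc, hiso⟩ := presented_iso (uu (1 : F)) (dSL w) wSL hclo
      [fU ^ 2, fH, fT ^ 2, (fU * fT) ^ 3]
      (fun x hx => by
        obtain ⟨e1, e2, e3⟩ := lift_gens (uu (1 : F)) (dSL w : SL(2, F)) wSL
        simp only [List.mem_cons, List.not_mem_nil, or_false] at hx
        rcases hx with rfl | rfl | rfl | rfl
        · rw [map_pow, e1, uu_pow, two_nsmul, CharTwo.add_self_eq_zero, uu_zero]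
        · rw [e2]; rw [h2] at hDN; simpa using hDN
        · rw [map_pow, e3, pow_two, char2_wSL_sq]
        · rw [map_pow, map_mul, e1, e3, char2_ut])
      (fun G _ u h t hgen hL => by
        obtain ⟨e1, e2, e3⟩ := lift_gens u h t
        have hu := hL (fU ^ 2) (by simp)
        have hh := hL fH (by simp)
        have ht := hL (fT ^ 2) (by simp)
        have h3 := hL ((fU * fT) ^ 3) (by simp)
        simp only [map_pow, map_mul, e1, e2, e3] at hu hh ht h3
        have hg1 : g = 1 := by rw [← pow_one g]; rw [h2] at hgN; exact hgN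
        refine hbound G u h t hgen ?_ (by rw [hh, one_pow]) (by rw [hh]; simp) (by rw [← pow_two, ht])
          (by rw [← pow_two, hu]) h3
        obtain ⟨Ψ⟩ := nonempty_polyHom h u (fun n => by simp [hh, cj])
        refine ⟨MonoidHom.mk' (fun y => if Multiplicative.toAdd y = 0 then 1 else u) ?_, ?_, ?_⟩
        · have htwo : ∀ y : F, y = 0 ∨ y = 1 := fun y => by
            by_contra hy
            push Not at hy
            obtain ⟨n, hn⟩ := hgen2 y hy.1
            exact hy.2 (by rw [hn, hg1, one_pow])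
          intro a b
          rcases htwo (Multiplicative.toAdd a) with ha | ha <;>
            rcases htwo (Multiplicative.toAdd b) with hb | hb <;>
              simp [toAdd_mul, ha, hb, CharTwo.add_self_eq_zero, ← pow_two, hu]
        · simp
        · intro y; simp [hh, hg1])
    exact ⟨rels, hc.trans (by simp), hiso⟩
  -- at least four elements
  have hg1 : g + 1 ≠ 0 := by
    intro h
    have hg : g = 1 := by rw [eq_neg_of_add_eq_zero_left h, CharTwo.neg_eq]
    have : (Finset.univ : Finset F) ⊆ {0, 1} := fun a _ => by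
      by_cases ha : a = 0
      · simp [ha]
      · obtain ⟨n, hn⟩ := hgen2 a ha
        simp [hn, hg]
    have := (Finset.card_le_card this).trans (Finset.card_insert_le _ _)
    simp at this
    omega
  obtain ⟨k, hk⟩ := hgen2 _ hg1
  obtain ⟨rels, hc, hiso⟩ := presented_iso (uu (1 : F)) (dSL w) wSL hclo
    [fU ^ 2 * (fH ^ (q - 1))⁻¹, fT ^ 2, (fT * fH) ^ 2, (fU * fT) ^ 3 * (ev fH fU D.M)⁻¹,
      fH ^ k * fU * (fH ^ k)⁻¹ * (fU * cj fH fU 1)⁻¹]
    (fun x hx => by
      obtain ⟨e1, e2, e3⟩ := lift_gens (uu (1 : F)) (dSL w : SL(2, F)) wSL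
      simp only [List.mem_cons, List.not_mem_nil, or_false] at hx
      rcases hx with rfl | rfl | rfl | rfl | rfl
      · rw [map_mul, map_inv, map_pow, map_pow, e1, e2, hDN, uu_pow, two_nsmul,
          CharTwo.add_self_eq_zero, uu_zero, inv_one, mul_one]
      · rw [map_pow, e3, pow_two, char2_wSL_sq]
      · rw [map_pow, map_mul, e2, e3, pow_two]
        have hwi : (wSL : SL(2, F))⁻¹ = wSL := inv_eq_of_mul_eq_one_right char2_wSL_sq
        calc wSL * dSL w * (wSL * dSL w) = (wSL * dSL w * wSL⁻¹) * dSL w := by rw [hwi]; group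
          _ = 1 := by rw [wSL_dSL, inv_mul_cancel]
      · simp only [map_mul, map_inv, map_pow, map_ev, e1, e2, e3]
        rw [char2_ut, hevM, inv_one, mul_one]
      · simp only [map_mul, map_inv, map_pow, map_cj, e1, e2, mul_inv_eq_one]
        rw [cj, dSL_pow_uu, dSL_pow_uu, uu_mul, ← hgdef, ← hk, pow_one, mul_one, mul_one, add_comm])
    (fun G _ u h t hgen hL => by
      obtain ⟨e1, e2, e3⟩ := lift_gens u h t
      have hA := hL (fU ^ 2 * (fH ^ (q - 1))⁻¹) (by simp)
      have ht2 := hL (fT ^ 2) (by simp)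
      have hth := hL ((fT * fH) ^ 2) (by simp)
      have h3 := hL ((fU * fT) ^ 3 * (ev fH fU D.M)⁻¹) (by simp)
      have hb := hL (fH ^ k * fU * (fH ^ k)⁻¹ * (fU * cj fH fU 1)⁻¹) (by simp)
      simp only [map_mul, map_inv, map_pow, map_ev, map_cj, e1, e2, e3, mul_inv_eq_one] at hA ht2 hth h3 hb
      have htt : t * t = 1 := by rw [← pow_two, ht2]
      have hti : t⁻¹ = t := inv_eq_of_mul_eq_one_right htt
      have hht : t * h * t⁻¹ = h⁻¹ := by
        rw [hti]
        refine eq_inv_of_mul_eq_one_left ?_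
        rw [mul_assoc, ← pow_two, hth]
      obtain ⟨hcu, hch⟩ := commute_of_pow_eq hA rfl
      set c := h ^ (q - 1) with hc
      have htc : t * c * t⁻¹ = c⁻¹ := pow_inverted hht _
      -- `c` is an involution
      have hcW : Commute c (ev h u D.M) := commute_ev hch hcu D.M
      have hc2 : c * c = 1 := by
        have hct : c * t * c⁻¹ = c * c * t := by
          calc c * t * c⁻¹ = c * (t * c * t⁻¹)⁻¹ * t := by group
            _ = c * c * t := by rw [htc, inv_inv]
        have h1 : c * (u * t) ^ 3 * c⁻¹ = (u * t) ^ 3 := by rw [h3, hcW.eq, mul_inv_cancel_right]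
        have hd : ∀ d : G, Commute d u → t * d * t⁻¹ = d⁻¹ →
            (u * (d * t)) * (u * (d * t)) * (u * (d * t)) = (u * t) ^ 3 * d⁻¹ := by
          intro d hdu hdt
          have e : d * t = t * d⁻¹ := by
            calc d * t = (t * d * t⁻¹)⁻¹ * t := by rw [hdt, inv_inv]
              _ = t * d⁻¹ := by group
          calc (u * (d * t)) * (u * (d * t)) * (u * (d * t))
              = (u * (t * d⁻¹)) * (u * (d * t)) * (u * (t * d⁻¹)) := by rw [← e]
            _ = u * t * (d⁻¹ * u * d) * t * u * t * d⁻¹ := by group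
            _ = u * t * u * t * u * t * d⁻¹ := by rw [hdu.inv_left.eq, inv_mul_cancel_right]
            _ = (u * t) ^ 3 * d⁻¹ := by rw [pow_three]; group
        have hconjut : c * (u * t) * c⁻¹ = u * (c * c * t) := by
          calc c * (u * t) * c⁻¹ = (c * u) * t * c⁻¹ := by group
            _ = u * (c * t * c⁻¹) := by rw [hcu.eq]; group
            _ = u * (c * c * t) := by rw [hct]
        rw [← conj_pow, hconjut, pow_succ, pow_two,
          hd (c * c) (hcu.mul_left hcu) (by
            calc t * (c * c) * t⁻¹ = (t * c * t⁻¹) * (t * c * t⁻¹) := by group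
              _ = (c * c)⁻¹ := by rw [htc, _root_.mul_inv_rev]),
          mul_eq_left, inv_eq_one] at h1
        exact h1
      -- `c` is central
      have hcinv : c⁻¹ = c := inv_eq_of_mul_eq_one_right hc2
      have hctc : Commute c t := by
        rw [hcinv] at htc
        show c * t = t * c
        calc c * t = (t * c * t⁻¹) * t := by rw [htc]
          _ = t * c := by group
      have hcen : ∀ z : G, Commute c z := by
        intro z
        have hz : z ∈ Subgroup.closure {u, h, t} := hgen ▸ Subgroup.mem_top z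
        induction hz using Subgroup.closure_induction with
        | mem x hx => rcases hx with rfl | rfl | rfl <;> assumption
        | one => exact Commute.one_right c
        | mul a b _ _ iha ihb => exact iha.mul_right ihb
        | inv a _ iha => exact iha.inv_right
      have hcmem : ∀ z ∈ Subgroup.zpowers c, ∀ y : G, Commute z y := by
        rintro _ ⟨n, rfl⟩ y; exact (hcen y).zpow_left n
      haveI : (Subgroup.zpowers c).Normal := ⟨fun z hz y => by
        rw [← (hcmem z hz y).eq, mul_inv_cancel_right]; exact hz⟩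
      let π := QuotientGroup.mk' (Subgroup.zpowers c)
      have hπc : π c = 1 := (QuotientGroup.eq_one_iff c).2 (Subgroup.mem_zpowers c)
      obtain ⟨-, hW⟩ := word_eq_one (u := π u) (h := π h) (t := π t) (m := q - 1) (k := k) D.M
        (by rw [← map_pow, hA, hπc]) (by rw [← map_pow, ← hc, hπc]) hodd
        (by rw [← map_inv, ← map_mul, ← map_mul, hht, map_inv])
        (by rw [← map_ev, ← map_mul, ← map_pow, h3])
        (by rw [← map_pow, ← map_inv, ← map_mul, ← map_mul, hb, map_mul, map_cj])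
      rw [← map_ev] at hW
      have hWmem : ev h u D.M ∈ Subgroup.zpowers c := (QuotientGroup.eq_one_iff _).1 hW
      obtain ⟨n, hn⟩ := hWmem
      set W := ev h u D.M with hWdef
      have hW2 : W * W = 1 := by
        rw [← hn]
        show c ^ n * c ^ n = 1
        rw [← (Commute.refl c).mul_zpow, hc2, _root_.one_zpow]
      have hWc : ∀ y : G, Commute W y := fun y => by rw [← hn]; exact (hcen y).zpow_left n
      have huu : u * u = c := by rw [← pow_two, hA]
      -- `c` is trivial
      have hui : u⁻¹ = u * c := inv_eq_of_mul_eq_one_right (by rw [← mul_assoc, huu, hc2])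
      have hkey : (u * t) * u * (u * t)⁻¹ = W * c * t := by
        have h3' : (u * t) * (u * t) = W * (u * t)⁻¹ := by
          rw [pow_three] at h3; rw [← h3]; group
        calc (u * t) * u * (u * t)⁻¹ = ((u * t) * (u * t)) * u⁻¹ := by
              rw [_root_.mul_inv_rev, hti]; group
          _ = W * (t * (u⁻¹ * u⁻¹)) := by rw [h3', _root_.mul_inv_rev, hti]; group
          _ = W * c * t := by
              rw [← _root_.mul_inv_rev, huu, hcinv, mul_assoc W c, hctc.eq]
      have hc1 : c = 1 := by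
        have e1 : ((u * t) * u * (u * t)⁻¹) * ((u * t) * u * (u * t)⁻¹) = c := by
          calc ((u * t) * u * (u * t)⁻¹) * ((u * t) * u * (u * t)⁻¹)
              = (u * t) * (u * u) * (u * t)⁻¹ := by group
            _ = c := by rw [huu, ← (hcen (u * t)).eq, mul_inv_cancel_right]
        rw [hkey] at e1
        rw [← e1, mul_assoc W c t]
        calc W * (c * t) * (W * (c * t)) = (W * W) * ((c * t) * (c * t)) := by
              rw [mul_assoc, ← mul_assoc (c * t), ← (hWc (c * t)).eq]; group
          _ = (c * t) * (c * t) := by rw [hW2, one_mul]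
          _ = c * c * (t * t) := (hctc.symm).mul_mul_mul_comm c t
          _ = 1 := by rw [hc2, htt, one_mul]
      have hu2 : u ^ 2 = 1 := hA.trans hc1
      have hb' : h ^ k * u * (h ^ k)⁻¹ = u * cj h u 1 := hb
      obtain ⟨hcomm, hW1⟩ := word_eq_one (u := u) (h := h) (t := t) (m := q - 1) (k := k) D.M hu2
        (hc.symm.trans hc1) hodd hht h3 hb'
      obtain ⟨Ψ⟩ := nonempty_polyHom (h ^ 1) u (by rw [pow_one]; exact hcomm)
      have hΦ : IsFieldHom g h u := field_hom D 1 Ψ hu2 (by rw [pow_one]; exact hW1) X (aeval_X g)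
        (by rw [Ψ.ev_eq, show (X : ℤ[X]) = X ^ 1 from (pow_one X).symm, Ψ.X_pow, cj, pow_one, pow_one])
      exact hbound G u h t hgen hΦ (hc.symm.trans hc1) hht htt (by rw [← pow_two, hu2])
        (h3.trans hW1))
  exact ⟨rels, hc.trans (by simp), hiso⟩

end CfsgLib.PresentSL2
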