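import Cfsg.Agent.Lib.PresentSL2.Bound

/-!
The matrices used in presentations of `SL₂` and `PSL₂` by a unipotent, a torus and a Weyl element,
and the criterion for a presentation on three generators.
-/

set_option autoImplicit false

namespace CfsgLib.PresentSL2

open Matrix Polynomial
open scoped MatrixGroups

/-- The three free generators. -/
def fU : FreeGroup (Fin 3) := FreeGroup.of 0
/-- The three free generators. -/
def fH : FreeGroup (Fin 3) := FreeGroup.of 1
/-- The three free generators. -/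
def fT : FreeGroup (Fin 3) := FreeGroup.of 2

theorem lift_gens {G : Type*} [Group G] (u h t : G) :
    FreeGroup.lift ![u, h, t] fU = u ∧ FreeGroup.lift ![u, h, t] fH = h ∧
      FreeGroup.lift ![u, h, t] fT = t := by
  simp [fU, fH, fT]

/-- The presentation criterion. -/
theorem presented_iso {T : Type*} [Group T] [Finite T] (u h t : T)
    (hgen : Subgroup.closure {u, h, t} = ⊤) (L : List (FreeGroup (Fin 3)))
    (hL : ∀ w ∈ L, FreeGroup.lift ![u, h, t] w = 1)
    (hcore : ∀ (G : Type) [Group G] (a b c : G), Subgroup.closure {a, b, c} = ⊤ →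
      (∀ w ∈ L, FreeGroup.lift ![a, b, c] w = 1) → Finite G ∧ Nat.card G ≤ Nat.card T) :
    ∃ rels : Finset (FreeGroup (Fin 3)), rels.card ≤ L.length ∧
      Nonempty (PresentedGroup (↑rels : Set (FreeGroup (Fin 3))) ≃* T) := by
  classical
  refine ⟨L.toFinset, L.toFinset_card_le, ?_⟩
  set R : Set (FreeGroup (Fin 3)) := ↑L.toFinset with hR
  have hf : ∀ r ∈ R, FreeGroup.lift ![u, h, t] r = 1 := fun r hr => hL r (by simpa [hR] using hr)
  let φ : PresentedGroup R →* T := PresentedGroup.toGroup hf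
  have hφ : ∀ i, φ (PresentedGroup.of i) = ![u, h, t] i := fun i => PresentedGroup.toGroup.of hf
  have hrange : ∀ {X : Type _} (v : Fin 3 → X), Set.range v = {v 0, v 1, v 2} := by
    intro X v
    ext x
    simp [Set.mem_range, Fin.exists_fin_succ, eq_comm]
  have hclos : Subgroup.closure {(PresentedGroup.of 0 : PresentedGroup R), PresentedGroup.of 1,
      PresentedGroup.of 2} = ⊤ := by
    rw [← hrange (fun i : Fin 3 => (PresentedGroup.of i : PresentedGroup R))]
    exact PresentedGroup.closure_range_of _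
  have hrel : ∀ w ∈ L, FreeGroup.lift ![(PresentedGroup.of 0 : PresentedGroup R),
      PresentedGroup.of 1, PresentedGroup.of 2] w = 1 := by
    intro w hw
    have he : FreeGroup.lift ![(PresentedGroup.of 0 : PresentedGroup R),
        PresentedGroup.of 1, PresentedGroup.of 2] = PresentedGroup.mk R := by
      refine FreeGroup.ext_hom _ _ fun i => ?_
      fin_cases i <;> simp [PresentedGroup.of]
    rw [he]
    exact PresentedGroup.one_of_mem (by simpa [hR] using hw)
  obtain ⟨hfin, hle⟩ := hcore _ _ _ _ hclos hrel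
  have hsurj : Function.Surjective φ := by
    rw [← MonoidHom.range_eq_top, eq_top_iff, ← hgen, Subgroup.closure_le]
    rintro x (rfl | rfl | rfl)
    exacts [⟨_, hφ 0⟩, ⟨_, hφ 1⟩, ⟨_, hφ 2⟩]
  exact ⟨MulEquiv.ofBijective φ ((Nat.bijective_iff_surjective_and_card φ).2
    ⟨hsurj, le_antisymm hle (Nat.card_le_card_of_surjective φ hsurj)⟩)⟩

variable {F : Type*} [Field F]

/-- The upper unitriangular hom. -/
def uSL : Multiplicative F →* SL(2, F) where
  toFun x := ⟨!![1, Multiplicative.toAdd x; 0, 1], by simp [Matrix.det_fin_two]⟩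
  map_one' := Subtype.ext (by simp [Matrix.one_fin_two])
  map_mul' x y := Subtype.ext (by
    show _ = !![1, Multiplicative.toAdd x; 0, 1] * !![1, Multiplicative.toAdd y; 0, 1]
    simp [add_comm])

/-- The diagonal hom. -/
def dSL : Fˣ →* SL(2, F) where
  toFun l := ⟨!![(l : F), 0; 0, ((l⁻¹ : Fˣ) : F)], by simp [Matrix.det_fin_two]⟩
  map_one' := Subtype.ext (by simp [Matrix.one_fin_two])
  map_mul' x y := Subtype.ext (by
    show _ = !![(x : F), 0; 0, ((x⁻¹ : Fˣ) : F)] * !![(y : F), 0; 0, ((y⁻¹ : Fˣ) : F)]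
    simp [mul_comm])

/-- The Weyl element. -/
def wSL : SL(2, F) := ⟨!![0, 1; -1, 0], by simp [Matrix.det_fin_two]⟩

/-- The unipotent element. -/
def uu (x : F) : SL(2, F) := uSL (Multiplicative.ofAdd x)

theorem dSL_uu (l : Fˣ) (y : F) :
    dSL l * uu y * (dSL l)⁻¹ = uu ((l : F) * (l : F) * y) := by
  rw [mul_inv_eq_iff_eq_mul]
  apply Subtype.ext
  show !![(l : F), 0; 0, ((l⁻¹ : Fˣ) : F)] * !![1, y; 0, 1] =
    !![1, (l : F) * l * y; 0, 1] * !![(l : F), 0; 0, ((l⁻¹ : Fˣ) : F)]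
  simp
  field_simp

theorem wSL_dSL (l : Fˣ) : wSL * dSL l * wSL⁻¹ = (dSL l)⁻¹ := by
  rw [← map_inv, mul_inv_eq_iff_eq_mul]
  apply Subtype.ext
  show !![(0 : F), 1; -1, 0] * !![(l : F), 0; 0, ((l⁻¹ : Fˣ) : F)] =
    !![((l⁻¹ : Fˣ) : F), 0; 0, (((l⁻¹)⁻¹ : Fˣ) : F)] * !![(0 : F), 1; -1, 0]
  simp

theorem wSL_sq : wSL * wSL = (dSL (-1 : Fˣ) : SL(2, F)) := by
  apply Subtype.ext
  show !![(0 : F), 1; -1, 0] * !![(0 : F), 1; -1, 0] =
    !![((-1 : Fˣ) : F), 0; 0, (((-1)⁻¹ : Fˣ) : F)]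
  simp

theorem wSL_uu (a : Fˣ) :
    wSL * uu (a : F) * wSL⁻¹ = uu (-((a : F)⁻¹)) * dSL a⁻¹ * wSL * uu (-((a : F)⁻¹)) := by
  rw [mul_inv_eq_iff_eq_mul]
  apply Subtype.ext
  show !![(0 : F), 1; -1, 0] * !![1, (a : F); 0, 1] =
    !![1, -((a : F)⁻¹); 0, 1] * !![((a⁻¹ : Fˣ) : F), 0; 0, (((a⁻¹)⁻¹ : Fˣ) : F)] *
      !![(0 : F), 1; -1, 0] * !![1, -((a : F)⁻¹); 0, 1] * !![(0 : F), 1; -1, 0]
  have ha : (a : F) ≠ 0 := a.ne_zero
  simp [ha]


theorem closure_eq_top (l : Fˣ) (hl : ∀ x : Fˣ, x ∈ Subgroup.zpowers l)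
    (hU : ∀ x : F, uu x ∈ Subgroup.closure {uu (1 : F), dSL l, wSL}) :
    Subgroup.closure {uu (1 : F), dSL l, wSL} = ⊤ := by
  have hD : ∀ x : Fˣ, dSL x ∈ Subgroup.closure {uu (1 : F), dSL l, wSL} := by
    intro x
    obtain ⟨k, rfl⟩ := hl x
    show dSL (l ^ k) ∈ _
    rw [map_zpow]
    exact Subgroup.zpow_mem _ (Subgroup.subset_closure (by simp)) k
  have hW : (wSL : SL(2, F)) ∈ Subgroup.closure {uu (1 : F), dSL l, wSL} :=
    Subgroup.subset_closure (by simp)
  rw [eq_top_iff]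
  intro M _
  induction M using Matrix.SpecialLinearGroup.fin_two_induction with
  | _ a b c d hdet =>
    by_cases hc : c = 0
    · have had : a * d = 1 := by rw [hc, mul_zero, sub_zero] at hdet; exact hdet
      have ha : a ≠ 0 := left_ne_zero_of_mul_eq_one had
      have hd : a⁻¹ = d := inv_eq_of_mul_eq_one_right had
      have h := Subgroup.mul_mem _ (hU (b * a)) (hD (Units.mk0 a ha))
      refine (congrArg (· ∈ Subgroup.closure {uu (1 : F), dSL l, wSL}) ?_).mp h
      apply Subtype.ext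
      show !![1, b * a; 0, 1] * !![a, 0; 0, a⁻¹] = !![a, b; c, d]
      simp [hc, hd]
      linear_combination b * had
    · have h := Subgroup.mul_mem _ (Subgroup.mul_mem _ (Subgroup.mul_mem _ (hU (a / c))
        (hD (Units.mk0 (-c⁻¹) (neg_ne_zero.2 (inv_ne_zero hc))))) hW) (hU (d / c))
      refine (congrArg (· ∈ Subgroup.closure {uu (1 : F), dSL l, wSL}) ?_).mp h
      apply Subtype.ext
      show !![1, a / c; 0, 1] * !![-c⁻¹, 0; 0, (-c⁻¹)⁻¹] * !![(0 : F), 1; -1, 0] * !![1, d / c; 0, 1] =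
        !![a, b; c, d]
      simp
      field_simp
      simp [hc]
      linear_combination hdet

/-- The three-term relation word. -/
noncomputable def threeW {G : Type*} [Group G] (i : ℕ) (Pb Ps : ℤ[X]) (r : ℕ) (u h t : G) : G :=
  t * ev (h ^ i) u Pb * t⁻¹ * (ev (h ^ i) u Ps * h ^ r * t * ev (h ^ i) u Ps)⁻¹

theorem map_threeW {G G' : Type*} [Group G] [Group G'] (f : G →* G') (i : ℕ) (Pb Ps : ℤ[X]) (r : ℕ)
    (u h t : G) : f (threeW i Pb Ps r u h t) = threeW i Pb Ps r (f u) (f h) (f t) := by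
  simp [threeW, map_ev]

/-- Data for the presentations of a fixed field. -/
structure Data (F : Type*) [Field F] (p : ℕ) where
  /-- generator of the multiplicative group -/
  w : Fˣ
  gen : ∀ x : Fˣ, x ∈ Subgroup.zpowers w
  /-- conjugation by `h ^ i` is multiplication by `x` -/
  x : F
  /-- the exponent -/
  i : ℕ
  hi : ((w : F) * (w : F)) ^ i = x
  /-- the module data -/
  D : PolyData p x

variable {p : ℕ}

/-- The multiplier of the torus generator. -/
def Data.g (d : Data F p) : F := (d.w : F) * (d.w : F)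

/-- A lift of a field element. -/
noncomputable def Data.poly (d : Data F p) (y : F) : ℤ[X] := (d.D.surj y).choose

theorem Data.aeval_poly (d : Data F p) (y : F) : aeval d.x (d.poly y) = y := (d.D.surj y).choose_spec

theorem Data.isFieldHom_target (d : Data F p) {T : Type*} [Group T] (f : SL(2, F) →* T) (y : F) :
    ev ((f (dSL d.w)) ^ d.i) (f (uu 1)) (d.poly y) = f (uu y) := by
  have hg : ∀ z, f (dSL d.w) * f.comp uSL (Multiplicative.ofAdd z) * (f (dSL d.w))⁻¹ =
      f.comp uSL (Multiplicative.ofAdd (d.g * z)) := fun z => by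
    show f (dSL d.w) * f (uu z) * (f (dSL d.w))⁻¹ = f (uu _)
    rw [← map_inv, ← map_mul, ← map_mul, dSL_uu]; rfl
  refine (ev_of_field_hom (f.comp uSL) rfl (fun z => (shift_pow (f.comp uSL) hg d.i z).trans
    (by rw [show d.g ^ d.i = d.x from d.hi])) _).trans ?_
  rw [d.aeval_poly]
  rfl

theorem Data.exists_r [Fintype F] (d : Data F p) (y : Fˣ) : ∃ r : ℕ, d.w ^ r = y := by
  have h := d.gen y
  rw [← mem_powers_iff_mem_zpowers] at h
  exact h

/-- The three-term relation for `b`. -/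
noncomputable def Data.rel3 [Fintype F] (d : Data F p) (b : Fˣ) {G : Type*} [Group G] (u h t : G) : G :=
  threeW d.i (d.poly b) (d.poly (-((b : F)⁻¹))) (d.exists_r b⁻¹).choose u h t

theorem Data.rel3_target [Fintype F] (d : Data F p) (b : Fˣ) {T : Type*} [Group T]
    (f : SL(2, F) →* T) : d.rel3 b (f (uu 1)) (f (dSL d.w)) (f wSL) = 1 := by
  unfold Data.rel3 threeW
  rw [d.isFieldHom_target f, d.isFieldHom_target f, mul_inv_eq_one, ← map_pow, ← map_pow dSL,
    (d.exists_r b⁻¹).choose_spec, ← map_inv, ← map_mul, ← map_mul, ← map_mul, ← map_mul, ← map_mul,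
    wSL_uu]

theorem Data.lift_rel3 [Fintype F] (d : Data F p) (b : Fˣ) {G : Type*} [Group G] (u h t : G) :
    FreeGroup.lift ![u, h, t] (d.rel3 b fU fH fT) = d.rel3 b u h t := by
  unfold Data.rel3
  rw [map_threeW]
  simp [fU, fH, fT]

theorem Data.three_use [Fintype F] (d : Data F p) (b : Fˣ) {G : Type*} [Group G] {u h t : G}
    (hrel : d.rel3 b u h t = 1) (Φ : Multiplicative F →* G) (h1 : Φ (Multiplicative.ofAdd 1) = u)
    (hg : ∀ y, h * Φ (Multiplicative.ofAdd y) * h⁻¹ = Φ (Multiplicative.ofAdd (d.g * y))) :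
    ∃ (s : F) (r : ℕ), t * Φ (Multiplicative.ofAdd (b : F)) * t⁻¹ =
      Φ (Multiplicative.ofAdd s) * h ^ r * t * Φ (Multiplicative.ofAdd s) := by
  have hev : ∀ y, ev (h ^ d.i) u (d.poly y) = Φ (Multiplicative.ofAdd y) := fun y => by
    rw [ev_of_field_hom Φ h1 (fun z => (shift_pow Φ hg d.i z).trans
      (by rw [show d.g ^ d.i = d.x from d.hi])), d.aeval_poly]
  unfold Data.rel3 threeW at hrel
  rw [hev, hev, mul_inv_eq_one] at hrel
  exact ⟨_, _, hrel⟩

theorem Data.closure_target (d : Data F p) :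
    Subgroup.closure {uu (1 : F), dSL d.w, wSL} = (⊤ : Subgroup SL(2, F)) := by
  refine closure_eq_top d.w d.gen fun y => ?_
  have h := d.isFieldHom_target (MonoidHom.id SL(2, F)) y
  simp only [MonoidHom.id_apply] at h
  rw [← h]
  refine Subgroup.list_prod_mem _ fun z hz => ?_
  obtain ⟨l, -, rfl⟩ := List.mem_map.1 hz
  refine Subgroup.zpow_mem _ (Subgroup.mul_mem _ (Subgroup.mul_mem _ ?_ ?_) (Subgroup.inv_mem _ ?_)) _
  · exact Subgroup.pow_mem _ (Subgroup.pow_mem _ (Subgroup.subset_closure (by simp)) _) _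
  · exact Subgroup.subset_closure (by simp)
  · exact Subgroup.pow_mem _ (Subgroup.pow_mem _ (Subgroup.subset_closure (by simp)) _) _

theorem Data.closure_map (d : Data F p) {T : Type*} [Group T] (f : SL(2, F) →* T)
    (hf : Function.Surjective f) :
    Subgroup.closure {f (uu (1 : F)), f (dSL d.w), f wSL} = ⊤ := by
  rw [show ({f (uu (1 : F)), f (dSL d.w), f wSL} : Set T) = f '' {uu (1 : F), dSL d.w, wSL} by
    simp [Set.image_insert_eq], ← MonoidHom.map_closure, d.closure_target, ← MonoidHom.range_eq_map,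
    MonoidHom.range_eq_top.2 hf]

end CfsgLib.PresentSL2
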