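import Cfsg.Agent.Lib.PresentSL2.Module

/-!
Groups generated by a field subgroup, a torus and a Weyl element have at most `q N (q + 1)` elements;
integral polynomial data for a field generator.
-/

set_option autoImplicit false

namespace CfsgLib.PresentSL2

open Polynomial

variable {F : Type*} [Field F] [Fintype F]

theorem card_le {G : Type*} [Group G] {g : F} {u h t : G} (hgen : Subgroup.closure {u, h, t} = ⊤)
    (hΦ : IsFieldHom g h u) {N : ℕ} (hN : 0 < N) (hhN : h ^ N = 1) (hgN : g ^ N = 1)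
    (hht : t * h * t⁻¹ = h⁻¹) (ht2 : ∃ r : ℕ, t * t = h ^ r)
    (S : Finset F) (hS : ∀ a : F, a ≠ 0 → ∃ b ∈ S, ∃ n : ℕ, a = g ^ n * b)
    (h3 : ∀ b ∈ S, ∀ Φ : Multiplicative F →* G, Φ (Multiplicative.ofAdd 1) = u →
      (∀ y, h * Φ (Multiplicative.ofAdd y) * h⁻¹ = Φ (Multiplicative.ofAdd (g * y))) →
      ∃ (s : F) (r : ℕ), t * Φ (Multiplicative.ofAdd b) * t⁻¹ =
        Φ (Multiplicative.ofAdd s) * h ^ r * t * Φ (Multiplicative.ofAdd s)) :
    Finite G ∧ Nat.card G ≤ Fintype.card F * N * (Fintype.card F + 1) := by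
  classical
  obtain ⟨Φ, hΦ1, hΦg⟩ := hΦ
  obtain ⟨r₀, hr₀⟩ := ht2
  obtain ⟨U, hU⟩ : ∃ U : F → G, ∀ y, U y = Φ (Multiplicative.ofAdd y) := ⟨_, fun _ => rfl⟩
  have hUadd : ∀ x y, U x * U y = U (x + y) := fun x y => by rw [hU, hU, hU, ← map_mul, ← ofAdd_add]
  have hU0 : U 0 = 1 := by rw [hU, ofAdd_zero, map_one]
  have hU1 : U 1 = u := by rw [hU, hΦ1]
  have hUh : ∀ (n : ℕ) (y : F), h ^ n * U y = U (g ^ n * y) * h ^ n := fun n y => by
    rw [hU, hU, ← shift_pow Φ hΦg n y, inv_mul_cancel_right]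
  have hg0 : g ≠ 0 := by rintro rfl; rw [zero_pow hN.ne'] at hgN; exact zero_ne_one hgN
  have hth : ∀ n : ℕ, t * h ^ n = (h ^ n)⁻¹ * t := by
    intro n
    have : t * h ^ n * t⁻¹ = (h ^ n)⁻¹ := by rw [← conj_pow, hht, inv_pow]
    rw [← this, inv_mul_cancel_right]
  have hinv : ∀ n : ℕ, ∃ k : ℕ, (h ^ n)⁻¹ = h ^ k := fun n => ⟨n * (N - 1), by
    rw [inv_eq_iff_mul_eq_one, ← pow_add,
      show n + n * (N - 1) = N * n by
        obtain ⟨c, rfl⟩ : ∃ c, N = c + 1 := ⟨N - 1, by omega⟩
        rw [Nat.add_sub_cancel]; ring,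
      pow_mul, hhN, one_pow]⟩
  have hsw : ∀ (n k : ℕ), (h ^ n)⁻¹ = h ^ k → ∀ y : F, U y * h ^ n = h ^ n * U (g ^ k * y) := by
    intro n k hk y
    have := hUh k y
    rw [← hk] at this
    rw [show U (g ^ k * y) = U (g ^ k * y) * (h ^ n)⁻¹ * h ^ n by group, ← this]
    group
  -- the conjugate of every non-trivial element of `U`
  have hbig : ∀ a : F, a ≠ 0 → ∃ (x y : F) (n : ℕ), t * U a * t⁻¹ = U x * h ^ n * t * U y := by
    intro a ha
    obtain ⟨b, hb, n, rfl⟩ := hS a ha
    obtain ⟨s, r, hr⟩ := h3 b hb Φ hΦ1 hΦg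
    rw [← hU, ← hU] at hr
    obtain ⟨k, hk⟩ := hinv n
    refine ⟨g ^ k * s, g ^ k * s, k + r + k, ?_⟩
    have e1 : U (g ^ n * b) = h ^ n * U b * (h ^ n)⁻¹ := by rw [hUh, mul_inv_cancel_right]
    have e2 : t * h ^ n * t⁻¹ = h ^ k := by rw [hth, hk, mul_inv_cancel_right]
    calc t * U (g ^ n * b) * t⁻¹
        = (t * h ^ n * t⁻¹) * (t * U b * t⁻¹) * (t * h ^ n * t⁻¹)⁻¹ := by rw [e1]; group
      _ = h ^ k * (U s * h ^ r * t * U s) * h ^ n := by rw [e2, hr, ← hk, inv_inv]
      _ = (h ^ k * U s) * h ^ r * t * (U s * h ^ n) := by simp only [mul_assoc]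
      _ = U (g ^ k * s) * h ^ k * h ^ r * t * (h ^ n * U (g ^ k * s)) := by rw [hUh, hsw n k hk]
      _ = U (g ^ k * s) * h ^ k * h ^ r * (t * h ^ n) * U (g ^ k * s) := by simp only [mul_assoc]
      _ = U (g ^ k * s) * h ^ (k + r + k) * t * U (g ^ k * s) := by
          rw [hth, hk, pow_add, pow_add]; simp only [mul_assoc]
  let f : F × Fin N × Option F → G := fun z =>
    U z.1 * h ^ (z.2.1 : ℕ) * (match z.2.2 with | none => 1 | some y => t * U y)
  have hmodN : ∀ n : ℕ, h ^ n = h ^ (n % N) := fun n => by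
    conv_lhs => rw [← Nat.div_add_mod n N, pow_add, pow_mul, hhN, one_pow, one_mul]
  have mem0 : ∀ (x : F) (n : ℕ), U x * h ^ n ∈ Set.range f := fun x n =>
    ⟨(x, ⟨n % N, Nat.mod_lt _ hN⟩, none), by simp [f, ← hmodN]⟩
  have mem1 : ∀ (x : F) (n : ℕ) (y : F), U x * h ^ n * (t * U y) ∈ Set.range f := fun x n y =>
    ⟨(x, ⟨n % N, Nat.mod_lt _ hN⟩, some y), by simp [f, ← hmodN]⟩
  have step : ∀ z ∈ Set.range f, z * u ∈ Set.range f ∧ z * h ∈ Set.range f ∧ z * t ∈ Set.range f := by
    rintro _ ⟨⟨x, n, o⟩, rfl⟩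
    rcases o with _ | y
    · simp only [f, mul_one]
      refine ⟨?_, ?_, ?_⟩
      · rw [← hU1, mul_assoc, hUh, ← mul_assoc, hUadd]; exact mem0 _ _
      · rw [mul_assoc, ← pow_succ]; exact mem0 _ _
      · have := mem1 x n 0; rwa [hU0, mul_one] at this
    · simp only [f]
      refine ⟨?_, ?_, ?_⟩
      · rw [← hU1, mul_assoc, mul_assoc t, hUadd]; exact mem1 _ _ _
      · obtain ⟨k, hk⟩ := hinv 1
        have e : U y * h = h * U (g⁻¹ * y) := by
          have := hUh 1 (g⁻¹ * y)
          rw [pow_one, pow_one, mul_inv_cancel_left₀ hg0] at this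
          exact this.symm
        have e2 : U x * h ^ (n : ℕ) * (t * U y) * h = U x * h ^ ((n : ℕ) + k) * (t * U (g⁻¹ * y)) := by
          have := hth 1
          rw [hk, pow_one] at this
          rw [mul_assoc, mul_assoc t, e, ← mul_assoc t, this, pow_add]
          simp only [mul_assoc]
        rw [e2]; exact mem1 _ _ _
      · by_cases hy : y = 0
        · rw [hy, hU0, mul_one, mul_assoc, hr₀, mul_assoc, ← pow_add]; exact mem0 _ _
        · obtain ⟨a, b, m, hab⟩ := hbig y hy
          have e2 : t * U y * t = U a * h ^ m * t * (U b * h ^ r₀) := by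
            rw [← mul_assoc (U a * h ^ m * t), ← hab, ← hr₀]; group
          obtain ⟨k, hk⟩ := hinv r₀
          have e3 : U b * h ^ r₀ = h ^ r₀ * U (g ^ k * b) := hsw r₀ k hk b
          have e4 : U x * h ^ (n : ℕ) * (t * U y) * t =
              U (x + g ^ (n : ℕ) * a) * h ^ ((n : ℕ) + m + k) * (t * U (g ^ k * b)) := by
            rw [mul_assoc, e2, e3, ← hUadd, pow_add, pow_add, ← hk]
            calc U x * h ^ (n : ℕ) * (U a * h ^ m * t * (h ^ r₀ * U (g ^ k * b)))
                = U x * (h ^ (n : ℕ) * U a) * h ^ m * (t * h ^ r₀) * U (g ^ k * b) := by group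
              _ = _ := by rw [hUh, hth]; group
          rw [e4]; exact mem1 _ _ _
  have surj : Function.Surjective f := by
    intro z
    have hz : z ∈ Subgroup.closure {u, h, t} := hgen ▸ Subgroup.mem_top z
    have horder : ∀ w ∈ ({u, h, t} : Set G), IsOfFinOrder w := by
      rintro w (rfl | rfl | rfl)
      · rw [isOfFinOrder_iff_pow_eq_one]
        refine ⟨Fintype.card F, Fintype.card_pos, ?_⟩
        rw [← hU1, hU, ← map_pow, ← ofAdd_nsmul]
        simp
      · exact isOfFinOrder_iff_pow_eq_one.2 ⟨N, hN, hhN⟩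
      · refine isOfFinOrder_iff_pow_eq_one.2 ⟨2 * N, by omega, ?_⟩
        rw [pow_mul, pow_two, hr₀, ← pow_mul, mul_comm, pow_mul, hhN, one_pow]
    rw [← Subgroup.mem_toSubmonoid, Subgroup.closure_toSubmonoid_of_isOfFinOrder horder] at hz
    refine Submonoid.closure_induction_right (motive := fun z _ => z ∈ Set.range f) ?_ ?_ hz
    · have := mem0 0 0; rwa [hU0, pow_zero, one_mul] at this
    · rintro a - b (rfl | rfl | rfl) ha
      · exact (step a ha).1
      · exact (step a ha).2.1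
      · exact (step a ha).2.2
  refine ⟨Finite.of_surjective f surj, (Nat.card_le_card_of_surjective f surj).trans (le_of_eq ?_)⟩
  rw [Nat.card_prod, Nat.card_prod, Finite.card_option, Nat.card_fin,
    Nat.card_eq_fintype_card (α := F)]
  ring

theorem exists_polyData {p : ℕ} [Fact p.Prime] [CharP F p] {e : ℕ} (hF : Fintype.card F = p ^ e)
    {x : F} (hx : ∀ d, 1 ≤ d → 2 * d ≤ e → x ^ p ^ d ≠ x) : Nonempty (PolyData p x) := by
  letI : Algebra (ZMod p) F := ZMod.algebra F p
  have hfin : Module.finrank (ZMod p) F = e := by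
    have h := Module.card_eq_pow_finrank (K := ZMod p) (V := F)
    rw [hF, ZMod.card] at h
    exact (Nat.pow_right_injective (Fact.out (p := p.Prime)).two_le h).symm
  have hint : IsIntegral (ZMod p) x := IsIntegral.of_finite _ x
  set μ := minpoly (ZMod p) x
  have hdeg : μ.natDegree = e := by
    have hd : μ.natDegree ∣ Module.finrank (ZMod p) F := minpoly.degree_dvd hint
    rw [hfin] at hd
    by_contra hne
    have hpos : 0 < μ.natDegree := minpoly.natDegree_pos hint
    have he : 0 < e := by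
      rcases Nat.eq_zero_or_pos e with rfl | h
      · have := Fintype.one_lt_card (α := F); rw [hF] at this; simp at this
      · exact h
    obtain ⟨c, hc⟩ := hd
    have hc2 : 2 ≤ c := by
      rcases c with _ | _ | c
      · omega
      · exact absurd (by rw [hc, Nat.mul_one]) hne
      · omega
    refine hx μ.natDegree hpos (by rw [hc]; nlinarith) ?_
    let K : IntermediateField (ZMod p) F := IntermediateField.adjoin (ZMod p) {x}
    haveI : Fintype K := Fintype.ofFinite K
    have hK : Fintype.card K = p ^ μ.natDegree := by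
      rw [Module.card_eq_pow_finrank (K := ZMod p) (V := K), ZMod.card,
        IntermediateField.adjoin.finrank hint]
    have hxK : x ∈ K := IntermediateField.subset_adjoin _ _ rfl
    have := FiniteField.pow_card (⟨x, hxK⟩ : K)
    rw [hK] at this
    exact congrArg Subtype.val this
  have hspan : Submodule.span (ZMod p) (Set.range fun i : Fin μ.natDegree => x ^ (i : ℕ)) = ⊤ := by
    refine LinearIndependent.span_eq_top_of_card_eq_finrank' (linearIndependent_pow x) ?_
    rw [Fintype.card_fin, hdeg, hfin]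
  obtain ⟨M, hM⟩ := Polynomial.map_surjective (Int.castRingHom (ZMod p)) ZMod.intCast_surjective μ
  -- adjust the constant so that the value at one is odd
  obtain ⟨M', hM', hodd⟩ : ∃ M' : ℤ[X], M'.map (Int.castRingHom (ZMod p)) = μ ∧
      (Odd p → Odd (M'.eval 1)) := by
    rcases Int.even_or_odd (M.eval 1) with hev | hodd
    · exact ⟨M + C (p : ℤ), by simp [hM], fun hp => by
        rw [eval_add, eval_C]; exact hev.add_odd (by exact_mod_cast hp)⟩
    · exact ⟨M, hM, fun _ => hodd⟩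
  have haev : ∀ P : ℤ[X], aeval x P = aeval x (P.map (Int.castRingHom (ZMod p))) := fun P => by
    rw [← algebraMap_int_eq, aeval_map_algebraMap]
  refine ⟨{ M := M', odd_one := hodd, root := ?_, surj := ?_, ker := ?_ }⟩
  · rw [haev, hM']; exact minpoly.aeval _ _
  · intro y
    have hy : y ∈ Submodule.span (ZMod p) (Set.range fun i : Fin μ.natDegree => x ^ (i : ℕ)) :=
      hspan ▸ Submodule.mem_top
    obtain ⟨c, rfl⟩ := (Submodule.mem_span_range_iff_exists_fun _).1 hy
    choose z hz using fun i => ZMod.intCast_surjective (c i)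
    refine ⟨∑ i, C (z i) * X ^ (i : ℕ), ?_⟩
    simp only [map_sum, map_mul, aeval_C, map_pow, aeval_X, Algebra.smul_def, ← hz, map_intCast,
      eq_intCast]
  · intro P hP
    rw [haev] at hP
    obtain ⟨Q₀, hQ₀⟩ := minpoly.dvd (ZMod p) x hP
    obtain ⟨Q, hQ⟩ := Polynomial.map_surjective (Int.castRingHom (ZMod p)) ZMod.intCast_surjective Q₀
    have h0 : (P - Q * M').map (Int.castRingHom (ZMod p)) = 0 := by
      rw [Polynomial.map_sub, Polynomial.map_mul, hQ, hM', hQ₀]; ring
    obtain ⟨R, hR⟩ : C (p : ℤ) ∣ P - Q * M' := by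
      rw [C_dvd_iff_dvd_coeff]
      intro i
      rw [← ZMod.intCast_zmod_eq_zero_iff_dvd]
      have := congrArg (fun f => f.coeff i) h0
      simp only [coeff_map, coeff_zero, eq_intCast] at this
      exact this
    exact ⟨Q, R, by rw [mul_comm R, ← hR]; ring⟩

end CfsgLib.PresentSL2
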