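import Mathlib

/-!
A group element with commuting conjugates generates a cyclic module over integral polynomials; with
the minimal polynomial relation it is an image of the additive group of a finite field.
-/

set_option autoImplicit false

namespace CfsgLib.PresentSL2

open Polynomial

variable {G : Type*} [Group G]

/-- The `l`th conjugate of `u` by the element `a`. -/
def cj (a u : G) (l : ℕ) : G := a ^ l * u * (a ^ l)⁻¹

theorem cj_add (a u : G) (k l : ℕ) : cj a u (k + l) = a ^ k * cj a u l * (a ^ k)⁻¹ := by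
  simp only [cj, pow_add, mul_inv_rev, mul_assoc]

theorem cj_zero (a u : G) : cj a u 0 = u := by simp [cj]

theorem map_cj {G' : Type*} [Group G'] (f : G →* G') (a u : G) (l : ℕ) :
    f (cj a u l) = cj (f a) (f u) l := by simp [cj]

/-- The word of an integral polynomial. -/
noncomputable def ev (a u : G) (P : ℤ[X]) : G :=
  ((List.range (P.natDegree + 1)).map fun l => cj a u l ^ P.coeff l).prod

theorem map_ev {G' : Type*} [Group G'] (f : G →* G') (a u : G) (P : ℤ[X]) :
    f (ev a u P) = ev (f a) (f u) P := by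
  simp only [ev, map_list_prod, List.map_map]
  congr 1
  refine List.map_congr_left fun l _ => ?_
  simp [map_cj, map_zpow]

/-- An additive map from polynomials commuting with the shift. -/
structure PolyHom (a u : G) where
  /-- the map -/
  toHom : Multiplicative ℤ[X] →* G
  apply_one : toHom (Multiplicative.ofAdd 1) = u
  shift : ∀ P, a * toHom (Multiplicative.ofAdd P) * a⁻¹ = toHom (Multiplicative.ofAdd (X * P))

namespace PolyHom

variable {a u : G} (Ψ : PolyHom a u)

theorem X_pow (l : ℕ) : Ψ.toHom (Multiplicative.ofAdd (X ^ l)) = cj a u l := by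
  induction l with
  | zero => rw [pow_zero, Ψ.apply_one, cj_zero]
  | succ l ih =>
    rw [pow_succ' X, ← Ψ.shift, ih, add_comm l 1, cj_add, pow_one]

theorem monomial (l : ℕ) (z : ℤ) :
    Ψ.toHom (Multiplicative.ofAdd (Polynomial.monomial l z)) = cj a u l ^ z := by
  rw [← X_pow Ψ, ← map_zpow, ← ofAdd_zsmul, ← C_mul_X_pow_eq_monomial]
  simp

theorem ev_eq (P : ℤ[X]) : ev a u P = Ψ.toHom (Multiplicative.ofAdd P) := by
  conv_rhs => rw [P.as_sum_range]
  rw [ev]
  generalize P.natDegree + 1 = N
  induction N with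
  | zero => simp
  | succ N ih =>
    rw [List.range_succ, List.map_append, List.prod_append, Finset.sum_range_succ, ofAdd_add,
      map_mul, ih, monomial]
    simp

end PolyHom

theorem nonempty_polyHom (a u : G) (hcomm : ∀ n, Commute u (cj a u n)) :
    Nonempty (PolyHom a u) := by
  let K : Subgroup G := Subgroup.closure (Set.range (cj a u))
  have hsym : ∀ k l, Commute (cj a u k) (cj a u l) := by
    intro k l
    wlog hkl : k ≤ l generalizing k l
    · exact (this l k (by omega)).symm
    obtain ⟨n, rfl⟩ := Nat.exists_eq_add_of_le hkl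
    rw [cj_add]
    exact (hcomm n).map (MulAut.conj (a ^ k)).toMonoidHom
  haveI hK : IsMulCommutative K := Subgroup.isMulCommutative_closure
    (k := Set.range (cj a u)) (by rintro _ ⟨k, rfl⟩ _ ⟨l, rfl⟩; exact (hsym k l).eq)
  letI : CommGroup K := { (inferInstance : Group K) with mul_comm := hK.is_comm.comm }
  have hinv : ∀ x ∈ K, (MulAut.conj a).toMonoidHom x ∈ K := by
    intro x hx
    have : (Subgroup.closure (Set.range (cj a u))).map (MulAut.conj a).toMonoidHom ≤ K := by
      rw [MonoidHom.map_closure, Subgroup.closure_le]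
      rintro _ ⟨_, ⟨l, rfl⟩, rfl⟩
      refine Subgroup.subset_closure ⟨1 + l, ?_⟩
      rw [cj_add, pow_one]; rfl
    exact this ⟨x, hx, rfl⟩
  let α : AddMonoid.End (Additive K) :=
    MonoidHom.toAdditive (((MulAut.conj a).toMonoidHom.comp K.subtype).codRestrict K fun x => hinv _ x.2)
  let v : Additive K := Additive.ofMul ⟨u, Subgroup.subset_closure ⟨0, cj_zero a u⟩⟩
  let Λ : ℤ[X] →+ Additive K :=
    AddMonoidHom.mk' (fun P => (aeval α P) v) fun P Q => by rw [map_add]; rfl
  refine ⟨⟨K.subtype.comp (AddMonoidHom.toMultiplicativeLeft Λ), ?_, fun P => ?_⟩⟩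
  · show ((Additive.toMul ((aeval α (1 : ℤ[X])) v) : K) : G) = u
    rw [map_one]; rfl
  · show a * ((Additive.toMul ((aeval α P) v) : K) : G) * a⁻¹ =
      ((Additive.toMul ((aeval α (X * P)) v) : K) : G)
    rw [map_mul, aeval_X]; rfl

/-- `1, x, x², …` span the field additively, with a monic relation generating all relations mod `p`. -/
structure PolyData {F : Type*} [Field F] (p : ℕ) (x : F) where
  /-- the relation -/
  M : ℤ[X]
  odd_one : Odd p → Odd (M.eval 1)
  root : aeval x M = 0
  surj : Function.Surjective (fun P : ℤ[X] => aeval x P)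
  ker : ∀ P : ℤ[X], aeval x P = 0 → ∃ Q R : ℤ[X], P = Q * M + R * C (p : ℤ)

/-- A homomorphism from the additive group of `F` on which conjugation by `h` is multiplication by `g`. -/
def IsFieldHom {F : Type*} [Field F] (g : F) (h u : G) : Prop :=
  ∃ Φ : Multiplicative F →* G, Φ (Multiplicative.ofAdd 1) = u ∧
    ∀ y, h * Φ (Multiplicative.ofAdd y) * h⁻¹ = Φ (Multiplicative.ofAdd (g * y))

theorem ev_of_field_hom {F : Type*} [Field F] {x : F} {a u : G} (Φ : Multiplicative F →* G)
    (h1 : Φ (Multiplicative.ofAdd 1) = u)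
    (hx : ∀ y, a * Φ (Multiplicative.ofAdd y) * a⁻¹ = Φ (Multiplicative.ofAdd (x * y))) (P : ℤ[X]) :
    ev a u P = Φ (Multiplicative.ofAdd (aeval x P)) := by
  let Ψ : PolyHom a u :=
    { toHom := Φ.comp (AddMonoidHom.toMultiplicative (aeval x : ℤ[X] →ₐ[ℤ] F).toRingHom.toAddMonoidHom)
      apply_one := by
        show Φ (Multiplicative.ofAdd (aeval x (1 : ℤ[X]))) = u
        rw [map_one]; exact h1
      shift := fun P => by
        show a * Φ (Multiplicative.ofAdd (aeval x P)) * a⁻¹ =
          Φ (Multiplicative.ofAdd (aeval x (X * P)))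
        rw [map_mul, aeval_X]; exact hx _ }
  exact Ψ.ev_eq P

theorem shift_pow {F : Type*} [Field F] {g : F} {h : G} (Φ : Multiplicative F →* G)
    (hg : ∀ y, h * Φ (Multiplicative.ofAdd y) * h⁻¹ = Φ (Multiplicative.ofAdd (g * y))) (n : ℕ) :
    ∀ y, h ^ n * Φ (Multiplicative.ofAdd y) * (h ^ n)⁻¹ = Φ (Multiplicative.ofAdd (g ^ n * y)) := by
  induction n with
  | zero => intro y; simp
  | succ n ih =>
    intro y
    rw [pow_succ' h, pow_succ' g, mul_inv_rev, mul_assoc g, ← hg, ← ih y]
    group

theorem field_hom {F : Type*} [Field F] {p : ℕ} [CharP F p] {x g : F} (D : PolyData p x)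
    {u h : G} (i : ℕ) (Ψ : PolyHom (h ^ i) u) (hp : u ^ p = 1) (hM : ev (h ^ i) u D.M = 1)
    (Pg : ℤ[X]) (hPg : aeval x Pg = g) (hg : h * u * h⁻¹ = ev (h ^ i) u Pg) :
    IsFieldHom g h u := by
  rw [Ψ.ev_eq] at hM hg
  have hsurj := D.surj
  have hker := D.ker
  generalize D.M = M at hM hker
  have hmul : ∀ (B : ℤ[X]), Ψ.toHom (Multiplicative.ofAdd B) = 1 →
      ∀ A : ℤ[X], Ψ.toHom (Multiplicative.ofAdd (A * B)) = 1 := by
    intro B hB A
    induction A using Polynomial.induction_on with
    | C z => rw [← smul_eq_C_mul, ofAdd_zsmul, map_zpow, hB, one_zpow]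
    | add A A' hA hA' => rw [add_mul, ofAdd_add, map_mul, hA, hA', one_mul]
    | monomial n z hn =>
      rw [show C z * X ^ (n + 1) * B = X * (C z * X ^ n * B) by ring, ← Ψ.shift, hn, mul_one,
        mul_inv_cancel]
  have hCp : Ψ.toHom (Multiplicative.ofAdd (C (p : ℤ))) = 1 := by
    rw [← monomial_zero_left, Ψ.monomial, cj_zero, zpow_natCast, hp]
  have hwd : ∀ P Q : ℤ[X], aeval x P = aeval x Q →
      Ψ.toHom (Multiplicative.ofAdd P) = Ψ.toHom (Multiplicative.ofAdd Q) := by
    intro P Q hPQ
    obtain ⟨A, B, hAB⟩ := hker (P - Q) (by rw [map_sub, hPQ, sub_self])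
    rw [show P = (A * M + B * C (p : ℤ)) + Q by rw [← hAB]; ring, ofAdd_add, map_mul, ofAdd_add,
      map_mul, hmul _ hM, hmul _ hCp, one_mul, one_mul]
  choose lift hlift using hsurj
  let Φ : Multiplicative F →* G := MonoidHom.mk'
    (fun y => Ψ.toHom (Multiplicative.ofAdd (lift (Multiplicative.toAdd y)))) fun y z => by
      rw [← map_mul, ← ofAdd_add]
      exact hwd _ _ (by rw [map_add]; simp only [hlift]; rfl)
  refine ⟨Φ, (hwd _ 1 (by simp only [hlift, map_one]; rfl)).trans Ψ.apply_one, fun y => ?_⟩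
  have key : ∀ P : ℤ[X], h * Ψ.toHom (Multiplicative.ofAdd P) * h⁻¹ =
      Ψ.toHom (Multiplicative.ofAdd (P * Pg)) := by
    intro P
    induction P using Polynomial.induction_on' with
    | add A B hA hB => rw [add_mul, ofAdd_add, ofAdd_add, map_mul, map_mul, ← hA, ← hB]; group
    | monomial l z =>
      have hl : h * cj (h ^ i) u l * h⁻¹ = Ψ.toHom (Multiplicative.ofAdd (X ^ l * Pg)) := by
        have h1 : ∀ l, Ψ.toHom (Multiplicative.ofAdd (X ^ l * Pg)) = cj (h ^ i) (h * u * h⁻¹) l := by
          intro l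
          induction l with
          | zero => rw [pow_zero, one_mul, cj_zero, hg]
          | succ l ih => rw [pow_succ' X, mul_assoc, ← Ψ.shift, ih, add_comm l 1, cj_add, pow_one]
        rw [h1]
        simp only [cj, ← pow_mul]
        have e := (Commute.refl h).pow_right (i * l)
        rw [show h ^ (i * l) * (h * u * h⁻¹) * (h ^ (i * l))⁻¹ =
          (h ^ (i * l) * h) * u * (h ^ (i * l) * h)⁻¹ by group, ← e.eq]
        group
      rw [Ψ.monomial, ← conj_zpow, hl, ← map_zpow, ← ofAdd_zsmul, smul_eq_C_mul, ← mul_assoc,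
        C_mul_X_pow_eq_monomial]
  show h * Ψ.toHom _ * h⁻¹ = Ψ.toHom _
  rw [key]
  refine hwd _ _ ?_
  simp only [map_mul, hPg, toAdd_ofAdd, hlift]
  ring

/-- Commutation from `u^b = u·u^a` for two commuting conjugators. -/
theorem commute_cj {a b u : G} (hab : Commute a b) (h01 : Commute u (cj a u 1))
    (hb : b * u * b⁻¹ = u * cj a u 1) : ∀ n, Commute u (cj a u n) := by
  intro n
  induction n using Nat.strong_induction_on with
  | _ n ih =>
    match n with
    | 0 => rw [cj_zero]
    | 1 => exact h01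
    | m + 2 =>
      have hpair : ∀ k l, k ≤ l → l ≤ k + (m + 1) → Commute (cj a u k) (cj a u l) := by
        intro k l hkl hlk
        obtain ⟨d, rfl⟩ := Nat.exists_eq_add_of_le hkl
        rw [cj_add]
        exact (ih d (by omega)).map (MulAut.conj (a ^ k)).toMonoidHom
      have hbn : b * cj a u (m + 1) * b⁻¹ = cj a u (m + 1) * cj a u (m + 2) := by
        have e := hab.symm.pow_right (m + 1)
        rw [show b * cj a u (m + 1) * b⁻¹ = a ^ (m + 1) * (b * u * b⁻¹) * (a ^ (m + 1))⁻¹ by
          simp only [cj]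
          rw [show b * (a ^ (m + 1) * u * (a ^ (m + 1))⁻¹) * b⁻¹ =
            (b * a ^ (m + 1)) * u * (b * a ^ (m + 1))⁻¹ by group, e.eq]
          group, hb, show m + 2 = (m + 1) + 1 by omega, cj_add a u (m + 1) 1]
        simp only [cj]
        group
      have h := (ih (m + 1) (by omega)).map (MulAut.conj b).toMonoidHom
      change Commute (b * u * b⁻¹) (b * cj a u (m + 1) * b⁻¹) at h
      rw [hb, hbn] at h
      have hP : Commute (u * cj a u 1) (cj a u (m + 1)) :=
        (ih (m + 1) (by omega)).mul_left (hpair 1 (m + 1) (by omega) (by omega))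
      have h1 : Commute (u * cj a u 1) (cj a u (m + 2)) := by
        have := hP.inv_right.mul_right h
        rwa [inv_mul_cancel_left] at this
      have hQ : Commute (cj a u 1) (cj a u (m + 2)) := hpair 1 (m + 2) (by omega) (by omega)
      have := h1.mul_left hQ.inv_left
      rwa [mul_inv_cancel_right] at this

end CfsgLib.PresentSL2
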