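import Cfsg.Agent.Lib.PresentSL2.Target
import Cfsg.Agent.Lib.Linear.Card

/-!
Presentations of `SL₂(q)` and `PSL₂(q)` on three generators with nine relations, `q` odd.
-/

set_option autoImplicit false
set_option linter.unusedSectionVars false

namespace CfsgLib.PresentSL2

open Matrix Polynomial
open scoped MatrixGroups

variable {F : Type*} [Field F] {p : ℕ}

theorem Data.ev_target (d : Data F p) {T : Type*} [Group T] (f : SL(2, F) →* T) (P : ℤ[X]) :
    ev ((f (dSL d.w)) ^ d.i) (f (uu 1)) P = f (uu (aeval d.x P)) := by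
  have hg : ∀ z, f (dSL d.w) * f.comp uSL (Multiplicative.ofAdd z) * (f (dSL d.w))⁻¹ =
      f.comp uSL (Multiplicative.ofAdd (d.g * z)) := fun z => by
    show f (dSL d.w) * f (uu z) * (f (dSL d.w))⁻¹ = f (uu _)
    rw [← map_inv, ← map_mul, ← map_mul, dSL_uu]; rfl
  exact ev_of_field_hom (f.comp uSL) rfl (fun z => (shift_pow (f.comp uSL) hg d.i z).trans
    (by rw [show d.g ^ d.i = d.x from d.hi])) P

theorem dSL_pow_uu (l : Fˣ) (n : ℕ) (y : F) :
    dSL l ^ n * uu y * (dSL l ^ n)⁻¹ = uu (((l : F) * l) ^ n * y) := by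
  rw [← map_pow, dSL_uu, Units.val_pow_eq_pow_val, mul_pow]

theorem uu_mul (a b : F) : uu a * uu b = (uu (a + b) : SL(2, F)) := by
  rw [uu, uu, uu, ← map_mul, ← ofAdd_add]

theorem uu_zero : (uu (0 : F) : SL(2, F)) = 1 := by rw [uu, ofAdd_zero, map_one]

theorem uu_pow (a : F) (n : ℕ) : (uu a : SL(2, F)) ^ n = uu (n • a) := by
  rw [uu, uu, ← map_pow, ← ofAdd_nsmul]

theorem commute_ev {G : Type*} [Group G] {c a u : G} (ha : Commute c a) (hu : Commute c u)
    (P : ℤ[X]) : Commute c (ev a u P) := by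
  refine Commute.list_prod_right _ _ fun z hz => ?_
  obtain ⟨l, -, rfl⟩ := List.mem_map.1 hz
  exact (((ha.pow_right l).mul_right hu).mul_right (ha.pow_right l).inv_right).zpow_right _

/-- An element commuting with `u` and `h` and inverted by `t` squares to one. -/
theorem sq_eq_one_of_three [Fintype F] (d : Data F p) (b : Fˣ) {G : Type*} [Group G] {u h t c : G}
    (hu : Commute c u) (hh : Commute c h) (htc : t * c * t⁻¹ = c⁻¹) (hrel : d.rel3 b u h t = 1) :
    c * c = 1 := by
  unfold Data.rel3 threeW at hrel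
  rw [mul_inv_eq_one] at hrel
  have hX := commute_ev (hh.pow_right d.i) hu (d.poly (b : F))
  have hA := commute_ev (hh.pow_right d.i) hu (d.poly (-((b : F)⁻¹)))
  set X := ev (h ^ d.i) u (d.poly (b : F))
  set A := ev (h ^ d.i) u (d.poly (-((b : F)⁻¹)))
  set n := (d.exists_r b⁻¹).choose
  have htc' : t * c = c⁻¹ * t := by rw [← htc, inv_mul_cancel_right]
  have hct : c * t = t * c⁻¹ := by
    calc c * t = c * (t * c) * c⁻¹ := by group
      _ = c * (c⁻¹ * t) * c⁻¹ := by rw [htc']
      _ = t * c⁻¹ := by group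
  have hl : Commute c (t * X * t⁻¹) := by
    show c * (t * X * t⁻¹) = t * X * t⁻¹ * c
    calc c * (t * X * t⁻¹) = (c * t) * X * t⁻¹ := by group
      _ = t * (c⁻¹ * X) * t⁻¹ := by rw [hct]; group
      _ = t * (X * c⁻¹) * t⁻¹ := by rw [hX.inv_left.eq]
      _ = t * X * (t * c)⁻¹ := by group
      _ = t * X * t⁻¹ * c := by rw [htc']; group
  rw [hrel] at hl
  have hB : Commute c (A * h ^ n) := hA.mul_right (hh.pow_right n)
  have h1 : Commute c ((A * h ^ n)⁻¹ * (A * h ^ n * t * A) * A⁻¹) :=
    (hB.inv_right.mul_right hl).mul_right hA.inv_right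
  rw [show (A * h ^ n)⁻¹ * (A * h ^ n * t * A) * A⁻¹ = t by group] at h1
  calc c * c = c * t * (c⁻¹ * t)⁻¹ := by group
    _ = 1 := by rw [← htc', h1.eq, mul_inv_cancel]

theorem pow_inverted {G : Type*} [Group G] {h t : G} (hht : t * h * t⁻¹ = h⁻¹) (n : ℕ) :
    t * h ^ n * t⁻¹ = (h ^ n)⁻¹ := by rw [← conj_pow, hht, inv_pow]

variable [Fintype F]

theorem assemble (d : Data F p) {T : Type*} [Group T] [Finite T] (f : SL(2, F) →* T)
    (hf : Function.Surjective f) (N r₀ : ℕ) (hN : 0 < N) (hgN : d.g ^ N = 1)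
    (hcard : Nat.card T = Fintype.card F * N * (Fintype.card F + 1))
    (hw : f wSL * f wSL = f (dSL d.w) ^ r₀)
    (R : List (FreeGroup (Fin 3))) (hlen : R.length ≤ 5)
    (hR : ∀ w ∈ R, FreeGroup.lift ![f (uu 1), f (dSL d.w), f wSL] w = 1)
    (hcore : ∀ (G : Type) [Group G] (u h t : G), (∀ w ∈ R, FreeGroup.lift ![u, h, t] w = 1) →
      t * h * t⁻¹ = h⁻¹ → t * t = h ^ r₀ → d.rel3 1 u h t = 1 → IsFieldHom d.g h u ∧ h ^ N = 1) :
    ∃ rels : Finset (FreeGroup (Fin 3)), rels.card ≤ 9 ∧
      Nonempty (PresentedGroup (↑rels : Set (FreeGroup (Fin 3))) ≃* T) := by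
  classical
  obtain ⟨rels, hcardR, hiso⟩ := presented_iso (f (uu 1)) (f (dSL d.w)) (f wSL) (d.closure_map f hf)
    (R ++ [fT * fH * fT⁻¹ * fH, fT * fT * (fH ^ r₀)⁻¹, d.rel3 1 fU fH fT, d.rel3 d.w fU fH fT])
    (fun w hw' => by
      simp only [List.mem_append, List.mem_cons, List.not_mem_nil, or_false] at hw'
      obtain ⟨e1, e2, e3⟩ := lift_gens (f (uu 1)) (f (dSL d.w)) (f wSL)
      rcases hw' with h | rfl | rfl | rfl | rfl
      · exact hR w h
      · simp only [map_mul, map_inv, e2, e3]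
        rw [← map_inv, ← map_mul, ← map_mul, ← map_mul, wSL_dSL, inv_mul_cancel, map_one]
      · simp only [map_mul, map_inv, map_pow, e2, e3]
        rw [hw, mul_inv_cancel]
      · rw [Data.lift_rel3]; exact d.rel3_target 1 f
      · rw [Data.lift_rel3]; exact d.rel3_target d.w f)
    (fun G _ u h t hgen hL => by
      obtain ⟨e1, e2, e3⟩ := lift_gens u h t
      have hA := hL (fT * fH * fT⁻¹ * fH) (by simp)
      have hB := hL (fT * fT * (fH ^ r₀)⁻¹) (by simp)
      have hC := hL (d.rel3 1 fU fH fT) (by simp)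
      have hD := hL (d.rel3 d.w fU fH fT) (by simp)
      simp only [map_mul, map_inv, map_pow, e2, e3] at hA hB
      rw [Data.lift_rel3] at hC hD
      have hht : t * h * t⁻¹ = h⁻¹ := eq_inv_of_mul_eq_one_left hA
      have ht2 : t * t = h ^ r₀ := mul_inv_eq_one.1 hB
      obtain ⟨hΦ, hhN⟩ := hcore G u h t (fun w hw' => hL w (by simp [hw'])) hht ht2 hC
      rw [hcard]
      refine card_le hgen hΦ hN hhN hgN hht ⟨r₀, ht2⟩ {1, (d.w : F)} ?_ ?_
      · intro a ha
        obtain ⟨k, hk⟩ := d.exists_r (Units.mk0 a ha)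
        have hk' : (d.w : F) ^ k = a := by rw [← Units.val_pow_eq_pow_val, hk]; rfl
        rcases Nat.even_or_odd k with ⟨n, rfl⟩ | ⟨n, rfl⟩
        · refine ⟨1, by simp, n, ?_⟩
          rw [← hk', Data.g, mul_one, mul_pow, ← pow_add]
        · refine ⟨(d.w : F), by simp, n, ?_⟩
          rw [← hk', Data.g, mul_pow, ← pow_add, two_mul, pow_succ]
      · intro b hb Φ h1 hg
        rcases Finset.mem_insert.1 hb with rfl | hb
        · exact d.three_use 1 hC Φ h1 hg
        · rw [Finset.mem_singleton] at hb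
          subst hb
          exact d.three_use d.w hD Φ h1 hg)
  exact ⟨rels, hcardR.trans (by simp; omega), hiso⟩

section Count

theorem exists_good (p e : ℕ) [Fact p.Prime] (hp : p ≠ 2) (hF : Fintype.card F = p ^ e)
    [CharP F p] (he : 2 ≤ e) (hq : Fintype.card F ≠ 9) :
    ∃ x y z : F, y ≠ 0 ∧ z ≠ 0 ∧ x = y * y ∧ x + 1 = z * z ∧
      ∀ d, 1 ≤ d → 2 * d ≤ e → x ^ p ^ d ≠ x := by
  classical
  have hp3 : 3 ≤ p := by have := (Fact.out (p := p.Prime)).two_le; omega
  have h2 : (2 : F) ≠ 0 := Ring.two_ne_zero (by rw [ringChar.eq F p]; exact hp)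
  by_contra hcon
  push Not at hcon
  set S : Finset F := Finset.univ.filter fun s => s ≠ 0 ∧ s ^ 4 ≠ 1 with hS
  set B : Finset F := Finset.univ.filter fun x => ∃ d, 1 ≤ d ∧ 2 * d ≤ e ∧ x ^ p ^ d = x with hB
  let φ : F → F := fun s => ((s - s⁻¹) / 2) * ((s - s⁻¹) / 2)
  have hφ1 : ∀ s, s ≠ 0 → φ s + 1 = ((s + s⁻¹) / 2) * ((s + s⁻¹) / 2) := by
    intro s hs
    simp only [φ]
    field_simp
    ring
  have hne : ∀ s ∈ S, φ s ≠ 0 ∧ φ s + 1 ≠ 0 := by
    intro s hs
    obtain ⟨-, hs0, hs4⟩ := Finset.mem_filter.1 hs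
    constructor
    · intro h
      have h' : s - s⁻¹ = 0 := by simpa [φ, h2] using h
      refine hs4 ?_
      have : s * s = 1 := by
        have := congrArg (· * s) h'
        simp only [sub_mul, inv_mul_cancel₀ hs0, zero_mul] at this
        linear_combination this
      linear_combination (s * s + 1) * this
    · intro h
      rw [hφ1 s hs0] at h
      have h' : s + s⁻¹ = 0 := by simpa [h2] using h
      refine hs4 ?_
      have : s * s = -1 := by
        have := congrArg (· * s) h'
        simp only [add_mul, inv_mul_cancel₀ hs0, zero_mul] at this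
        linear_combination this
      linear_combination (s * s - 1) * this
  have hBsub : S.image φ ⊆ (B.erase 0).erase (-1) := by
    intro x hx
    obtain ⟨s, hs, rfl⟩ := Finset.mem_image.1 hx
    obtain ⟨h0, h1⟩ := hne s hs
    have hs0 := (Finset.mem_filter.1 hs).2.1
    have hy : (s - s⁻¹) / 2 ≠ 0 := fun h => h0 (by simp [φ, h])
    have hz : (s + s⁻¹) / 2 ≠ 0 := fun h => h1 (by rw [hφ1 s hs0, h, mul_zero])
    obtain ⟨d, hd1, hd2, hd3⟩ := hcon (φ s) _ _ hy hz rfl (hφ1 s hs0)
    simp only [Finset.mem_erase, hB, Finset.mem_filter, Finset.mem_univ, true_and, ne_eq]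
    exact ⟨fun h => h1 (by rw [h, neg_add_cancel]), h0, d, hd1, hd2, hd3⟩
  have hfib : ∀ x ∈ S.image φ, (S.filter fun s => φ s = x).card ≤ 4 := by
    intro x hx
    obtain ⟨s, hs, rfl⟩ := Finset.mem_image.1 hx
    have hs0 := (Finset.mem_filter.1 hs).2.1
    refine le_trans (Finset.card_le_card (t := {s, -s, s⁻¹, -s⁻¹}) fun r hr => ?_) ?_
    · obtain ⟨hrS, hr'⟩ := Finset.mem_filter.1 hr
      have hr0 := (Finset.mem_filter.1 hrS).2.1
      simp only [Finset.mem_insert, Finset.mem_singleton]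
      have he' : (r - r⁻¹) = (s - s⁻¹) ∨ (r - r⁻¹) = -(s - s⁻¹) := by
        rcases mul_self_eq_mul_self_iff.1 hr' with h | h
        · exact Or.inl ((div_left_inj' h2).1 h)
        · refine Or.inr ((div_left_inj' h2).1 ?_)
          rw [h, neg_div]
      rcases he' with h | h
      · have : (r - s) * (r + s⁻¹) = 0 := by
          linear_combination r * h + mul_inv_cancel₀ hr0 - mul_inv_cancel₀ hs0
        rcases mul_eq_zero.1 this with h' | h'
        · exact Or.inl (sub_eq_zero.1 h')
        · exact Or.inr (Or.inr (Or.inr (eq_neg_of_add_eq_zero_left h')))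
      · have : (r + s) * (r - s⁻¹) = 0 := by
          linear_combination r * h + mul_inv_cancel₀ hr0 - mul_inv_cancel₀ hs0
        rcases mul_eq_zero.1 this with h' | h'
        · exact Or.inr (Or.inl (eq_neg_of_add_eq_zero_left h'))
        · exact Or.inr (Or.inr (Or.inl (sub_eq_zero.1 h')))
    · refine (Finset.card_insert_le _ _).trans ?_
      refine Nat.succ_le_succ ((Finset.card_insert_le _ _).trans ?_)
      exact Nat.succ_le_succ ((Finset.card_insert_le _ _).trans (by simp))
  have hScard : Fintype.card F ≤ S.card + 5 := by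
    have hc : (Finset.univ \ S).card ≤ 5 := by
      refine le_trans (Finset.card_le_card (t := insert 0 ((Polynomial.nthRoots 4 (1 : F)).toFinset))
        fun s hs => ?_) ?_
      · simp only [hS, Finset.mem_sdiff, Finset.mem_univ, true_and, Finset.mem_filter, not_and_or,
          not_not] at hs
        rcases hs with h | h
        · exact Finset.mem_insert.2 (Or.inl h)
        · exact Finset.mem_insert_of_mem (by simp [Polynomial.mem_nthRoots, h])
      · refine (Finset.card_insert_le _ _).trans (Nat.succ_le_succ ?_)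
        exact (Multiset.toFinset_card_le _).trans (Polynomial.card_nthRoots 4 1)
    have := Finset.card_sdiff_add_card_eq_card (Finset.subset_univ S)
    rw [Finset.card_univ] at this
    omega
  have himg : S.card ≤ 4 * (S.image φ).card :=
    Finset.card_le_mul_card_image S 4 hfib
  have hBcard : B.card ≤ ∑ d ∈ Finset.Icc 1 (e / 2), p ^ d := by
    refine le_trans (Finset.card_le_card (t := (Finset.Icc 1 (e / 2)).biUnion fun d =>
      (X ^ p ^ d - X : F[X]).roots.toFinset) fun x hx => ?_) ?_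
    · obtain ⟨-, d, hd1, hd2, hd3⟩ := Finset.mem_filter.1 hx
      refine Finset.mem_biUnion.2 ⟨d, Finset.mem_Icc.2 ⟨hd1, by omega⟩, ?_⟩
      rw [Multiset.mem_toFinset, mem_roots
        (FiniteField.X_pow_card_pow_sub_X_ne_zero F (by omega) (Fact.out (p := p.Prime)).one_lt)]
      simp [hd3]
    · refine Finset.card_biUnion_le.trans (Finset.sum_le_sum fun d hd => ?_)
      refine (Multiset.toFinset_card_le _).trans ((card_roots' _).trans (le_of_eq ?_))
      exact FiniteField.X_pow_card_pow_sub_X_natDegree_eq F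
        (by have := (Finset.mem_Icc.1 hd).1; omega) (Fact.out (p := p.Prime)).one_lt
  have h01 : ((B.erase 0).erase (-1)).card + 2 = B.card := by
    have hm0 : (0 : F) ∈ B := Finset.mem_filter.2 ⟨Finset.mem_univ _, 1, le_rfl, by omega, by
      rw [pow_one, zero_pow (by omega)]⟩
    have hm1 : (-1 : F) ∈ B.erase 0 := by
      refine Finset.mem_erase.2 ⟨neg_ne_zero.2 one_ne_zero, Finset.mem_filter.2
        ⟨Finset.mem_univ _, 1, le_rfl, by omega, ?_⟩⟩
      rw [pow_one]
      exact Odd.neg_one_pow ((Fact.out (p := p.Prime)).odd_of_ne_two hp)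
    have a1 := Finset.card_erase_add_one hm1
    have a2 := Finset.card_erase_add_one hm0
    omega
  have hle := Finset.card_le_card hBsub
  rcases eq_or_lt_of_le he with rfl | he3
  · rw [show (2 : ℕ) / 2 = 1 from rfl, Finset.Icc_self, Finset.sum_singleton, pow_one] at hBcard
    have hp5 : 5 ≤ p := by
      rcases Nat.lt_or_ge p 5 with h | h
      · interval_cases p
        · rw [hF] at hq; simp at hq
        · exact absurd (Fact.out (p := Nat.Prime 4)) (by norm_num)
      · exact h
    have h5 : 5 * p ≤ p * p := Nat.mul_le_mul_right p hp5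
    rw [hF, sq] at hScard
    omega
  · set k := e / 2
    have hsum : 2 * ∑ d ∈ Finset.Icc 1 k, p ^ d ≤ p ^ (k + 1) := by
      clear_value k
      clear hBcard
      induction k with
      | zero => simp
      | succ k ih =>
        rw [Finset.sum_Icc_succ_top (by omega), mul_add]
        have : 3 * p ^ (k + 1) ≤ p ^ (k + 1 + 1) := by
          rw [pow_succ' p (k + 1)]; exact Nat.mul_le_mul_right _ hp3
        omega
    have h3 : 3 * p ^ (k + 1) ≤ p ^ e := by
      calc 3 * p ^ (k + 1) ≤ p * p ^ (k + 1) := Nat.mul_le_mul_right _ hp3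
        _ = p ^ (k + 2) := by ring
        _ ≤ p ^ e := Nat.pow_le_pow_right (by omega) (by omega)
    rw [hF] at hScard
    omega

end Count

end CfsgLib.PresentSL2
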