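import Cfsg.Agent.Lib.PresentSL2.Odd

/-!
The relations on the unipotent and torus generators, `q` odd: at most five of them.
-/

set_option autoImplicit false

namespace CfsgLib.PresentSL2

open Matrix Polynomial
open scoped MatrixGroups

variable {F : Type*} [Field F] [Fintype F] {p : ℕ}

/-- A list of at most five relations with the required consequences. -/
def HasCore (g : F) {T : Type*} [Group T] (u₀ h₀ t₀ : T) (N r₀ : ℕ)
    (three : FreeGroup (Fin 3)) : Prop :=
  ∃ R : List (FreeGroup (Fin 3)), R.length ≤ 5 ∧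
    (∀ w ∈ R, FreeGroup.lift ![u₀, h₀, t₀] w = 1) ∧
    ∀ (G : Type) [Group G] (u h t : G), (∀ w ∈ R, FreeGroup.lift ![u, h, t] w = 1) →
      t * h * t⁻¹ = h⁻¹ → t * t = h ^ r₀ → FreeGroup.lift ![u, h, t] three = 1 →
      IsFieldHom g h u ∧ h ^ N = 1

theorem commute_of_pow_eq {G : Type*} [Group G] {u h c : G} {a b : ℕ} (h1 : u ^ a = c) (h2 : h ^ b = c) :
    Commute c u ∧ Commute c h :=
  ⟨h1 ▸ (Commute.refl u).pow_left a, h2 ▸ (Commute.refl h).pow_left b⟩

theorem pow_p_polyHom {G : Type*} [Group G] {a u c : G} {p : ℕ} (Ψ : PolyHom a u) (hp : u ^ p = c)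
    (hc : Commute c a) (P : ℤ[X]) :
    Ψ.toHom (Multiplicative.ofAdd P) ^ p = c ^ (P.eval 1) := by
  induction P using Polynomial.induction_on' with
  | add A B hA hB =>
    rw [ofAdd_add, ← map_pow, mul_pow, map_mul, map_pow, map_pow, hA, hB, eval_add, _root_.zpow_add]
  | monomial l z =>
    rw [Ψ.monomial, ← zpow_natCast, ← _root_.zpow_mul, mul_comm, _root_.zpow_mul, zpow_natCast]
    congr 1
    · rw [cj, conj_pow, hp, ← (hc.pow_right l).eq, mul_inv_cancel_right]
    · simp

theorem core_general [CharP F p] (d : Data F p) (hodd : Odd p) {k : ℕ}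
    (hk : d.g ^ k = d.x + 1) {T : Type*} [Group T] (f : SL(2, F) →* T)
    (psl : Bool) {m : ℕ}
    (htriv : psl = true → f (dSL d.w) ^ m = 1) :
    HasCore d.g (f (uu 1)) (f (dSL d.w)) (f wSL) (if psl then m else 2 * m) (if psl then 0 else m)
      (d.rel3 1 fU fH fT) := by
  classical
  refine ⟨[fU ^ p * ((if psl then fH ^ m else 1))⁻¹,
    fU * cj (fH ^ d.i) fU 1 * (cj (fH ^ d.i) fU 1 * fU)⁻¹,
    fH ^ k * fU * (fH ^ k)⁻¹ * (fU * cj (fH ^ d.i) fU 1)⁻¹,
    fH * fU * fH⁻¹ * (ev (fH ^ d.i) fU (d.poly d.g))⁻¹,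
    ev (fH ^ d.i) fU d.D.M], by simp, ?_, ?_⟩
  · intro w hw
    obtain ⟨e1, e2, e3⟩ := lift_gens (f (uu 1)) (f (dSL d.w)) (f wSL)
    have hcj : cj (f (dSL d.w) ^ d.i) (f (uu 1)) 1 = f (uu d.x) := by
      rw [cj, pow_one, ← map_pow, ← map_inv, ← map_mul, ← map_mul, dSL_pow_uu, d.hi, mul_one]
    simp only [List.mem_cons, List.not_mem_nil, or_false] at hw
    rcases hw with rfl | rfl | rfl | rfl | rfl
    · rw [map_mul, map_inv, map_pow, e1, ← map_pow f, uu_pow, nsmul_one, CharP.cast_eq_zero, uu_zero,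
        map_one, one_mul, inv_eq_one]
      cases psl
      · simp
      · simp only [if_true, map_pow, e2]; exact htriv rfl
    · simp only [map_mul, map_inv, map_cj, map_pow, e1, e2, hcj, mul_inv_eq_one]
      rw [← map_mul, ← map_mul, uu_mul, uu_mul, add_comm]
    · simp only [map_mul, map_inv, map_cj, map_pow, e1, e2, hcj, mul_inv_eq_one]
      rw [← map_mul, ← map_pow, ← map_inv, ← map_mul, ← map_mul, dSL_pow_uu, uu_mul, mul_one]
      rw [show ((d.w : F) * d.w) ^ k = d.x + 1 from hk, add_comm]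
    · simp only [map_mul, map_inv, map_ev, map_pow, e1, e2, mul_inv_eq_one]
      rw [d.ev_target, d.aeval_poly, ← map_inv, ← map_mul, ← map_mul, dSL_uu, mul_one]
      rfl
    · simp only [map_ev, map_pow, e1, e2]
      rw [d.ev_target, d.D.root, uu_zero, map_one]
  · intro G _ u h t hR hht ht2 h3
    obtain ⟨e1, e2, e3⟩ := lift_gens u h t
    have hP := hR (fU ^ p * ((if psl then fH ^ m else 1))⁻¹) (by simp)
    have hC := hR (fU * cj (fH ^ d.i) fU 1 * (cj (fH ^ d.i) fU 1 * fU)⁻¹) (by simp)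
    have hB := hR (fH ^ k * fU * (fH ^ k)⁻¹ * (fU * cj (fH ^ d.i) fU 1)⁻¹) (by simp)
    have hH := hR (fH * fU * fH⁻¹ * (ev (fH ^ d.i) fU (d.poly d.g))⁻¹) (by simp)
    have hM := hR (ev (fH ^ d.i) fU d.D.M) (by simp)
    simp only [map_mul, map_inv, map_cj, map_ev, map_pow, e1, e2, mul_inv_eq_one] at hC hB hH hM
    rw [Data.lift_rel3] at h3
    obtain ⟨Ψ⟩ := nonempty_polyHom (h ^ d.i) u
      (commute_cj ((Commute.refl h).pow_pow d.i k) hC hB)
    cases psl
    · simp only [Bool.false_eq_true, if_false, map_mul, map_inv, map_pow, map_one, inv_one, mul_one,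
        e1] at hP ht2 ⊢
      refine ⟨field_hom d.D d.i Ψ hP hM _ (d.aeval_poly _) hH, ?_⟩
      have hc := pow_inverted hht m
      have h1 : t * h ^ m * t⁻¹ = h ^ m := by rw [← ht2]; group
      rw [h1] at hc
      rw [mul_comm, pow_mul, pow_two]
      exact mul_eq_one_iff_eq_inv.2 hc
    · simp only [if_true, map_mul, map_inv, map_pow, e1, e2, mul_inv_eq_one] at hP ⊢
      obtain ⟨hcu, hch⟩ := commute_of_pow_eq hP rfl
      have hc2 := sq_eq_one_of_three d 1 hcu hch (pow_inverted hht m) h3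
      have hpow := pow_p_polyHom Ψ hP (hch.pow_right d.i) d.D.M
      rw [← Ψ.ev_eq, hM, one_pow] at hpow
      obtain ⟨j, hj⟩ := d.D.odd_one hodd
      have hc1 : h ^ m = 1 := by
        rw [hj, _root_.zpow_add, _root_.zpow_mul, zpow_one, zpow_two, hc2, _root_.one_zpow,
          one_mul] at hpow
        exact hpow.symm
      exact ⟨field_hom d.D d.i Ψ (hP.trans hc1) hM _ (d.aeval_poly _) hH, hc1⟩

theorem core_small [CharP F p] (d : Data F p) (hi : d.i = 1)
    (hsmall : (∃ n : ℕ, (n : F) = d.g) ∨ d.g * d.g = -1)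
    {T : Type*} [Group T] (f : SL(2, F) →* T) (psl : Bool) {m : ℕ}
    (htriv : psl = true → f (dSL d.w) ^ m = 1) :
    HasCore d.g (f (uu 1)) (f (dSL d.w)) (f wSL) (if psl then m else 2 * m) (if psl then 0 else m)
      (d.rel3 1 fU fH fT) := by
  classical
  have hxg : d.x = d.g := by rw [← d.hi, hi, pow_one]; rfl
  obtain ⟨W, hW1, hW2, hW3⟩ : ∃ W : List (FreeGroup (Fin 3)), W.length ≤ 2 ∧
      (∀ w ∈ W, FreeGroup.lift ![f (uu 1), f (dSL d.w), f wSL] w = 1) ∧
      ∀ (G : Type) [Group G] (u h t : G), (∀ w ∈ W, FreeGroup.lift ![u, h, t] w = 1) →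
        ∀ n, Commute u (cj h u n) := by
    obtain ⟨e1, e2, e3⟩ := lift_gens (f (uu 1)) (f (dSL d.w)) (f wSL)
    have hcj : ∀ l, cj (f (dSL d.w)) (f (uu 1)) l = f (uu (d.g ^ l)) := fun l => by
      rw [cj, ← map_pow, ← map_inv, ← map_mul, ← map_mul, dSL_pow_uu, mul_one]; rfl
    rcases hsmall with ⟨n, hn⟩ | hneg
    · refine ⟨[cj fH fU 1 * (fU ^ n)⁻¹], by simp, ?_, ?_⟩
      · intro w hw
        simp only [List.mem_cons, List.not_mem_nil, or_false] at hw
        subst hw
        simp only [map_mul, map_inv, map_cj, map_pow, e1, e2, hcj, mul_inv_eq_one]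
        rw [← map_pow, uu_pow, nsmul_one, pow_one, hn]
      · intro G _ u h t hR
        obtain ⟨g1, g2, g3⟩ := lift_gens u h t
        have h1 := hR _ (List.mem_singleton_self _)
        simp only [map_mul, map_inv, map_cj, map_pow, g1, g2, mul_inv_eq_one] at h1
        have hall : ∀ l, ∃ j : ℕ, cj h u l = u ^ j := by
          intro l
          induction l with
          | zero => exact ⟨1, by rw [cj_zero, pow_one]⟩
          | succ l ih =>
            obtain ⟨j, hj⟩ := ih
            refine ⟨n * j, ?_⟩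
            rw [add_comm l 1, cj_add, hj, ← conj_pow, pow_mul,
              show h ^ 1 * u * (h ^ 1)⁻¹ = cj h u 1 from rfl, h1]
        intro l
        obtain ⟨j, hj⟩ := hall l
        rw [hj]
        exact (Commute.refl u).pow_right j
    · refine ⟨[fU * cj fH fU 1 * (cj fH fU 1 * fU)⁻¹, cj fH fU 2 * fU], by simp, ?_, ?_⟩
      · intro w hw
        simp only [List.mem_cons, List.not_mem_nil, or_false] at hw
        rcases hw with rfl | rfl
        · simp only [map_mul, map_inv, map_cj, e1, e2, hcj, mul_inv_eq_one]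
          rw [← map_mul, ← map_mul, uu_mul, uu_mul, add_comm]
        · simp only [map_mul, map_cj, e1, e2, hcj]
          rw [← map_mul, uu_mul, pow_two, hneg, neg_add_cancel, uu_zero, map_one]
      · intro G _ u h t hR
        obtain ⟨g1, g2, g3⟩ := lift_gens u h t
        have h1 := hR (fU * cj fH fU 1 * (cj fH fU 1 * fU)⁻¹) (by simp)
        have h2 := hR (cj fH fU 2 * fU) (by simp)
        simp only [map_mul, map_inv, map_cj, g1, g2, mul_inv_eq_one] at h1 h2
        intro l
        induction l using Nat.twoStepInduction with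
        | zero => rw [cj_zero]
        | one => exact h1
        | more l ih _ =>
          have e : cj h u (l + 2) = (cj h u l)⁻¹ := by
            rw [cj_add, eq_inv_of_mul_eq_one_left h2]
            simp [cj, mul_assoc]
          rw [e]
          exact ih.inv_right
  refine ⟨[fU ^ p, ev (fH ^ d.i) fU d.D.M] ++ W ++ (if psl then [fH ^ m] else []), ?_, ?_, ?_⟩
  · cases psl <;> simp <;> omega
  · intro w hw
    obtain ⟨e1, e2, e3⟩ := lift_gens (f (uu 1)) (f (dSL d.w)) (f wSL)
    simp only [List.mem_append, List.mem_cons, List.not_mem_nil, or_false] at hw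
    rcases hw with ((rfl | rfl) | hw) | hw
    · rw [map_pow, e1, ← map_pow f, uu_pow, nsmul_one, CharP.cast_eq_zero, uu_zero, map_one]
    · simp only [map_ev, map_pow, e1, e2]
      rw [d.ev_target, d.D.root, uu_zero, map_one]
    · exact hW2 w hw
    · cases psl
      · simp at hw
      · simp only [if_true, List.mem_singleton] at hw
        subst hw
        rw [map_pow, e2]
        exact htriv rfl
  · intro G _ u h t hR hht ht2 _
    obtain ⟨e1, e2, e3⟩ := lift_gens u h t
    have hP := hR (fU ^ p) (by simp)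
    have hM := hR (ev (fH ^ d.i) fU d.D.M) (by simp)
    simp only [map_ev, map_pow, e1, e2] at hP hM
    have hcomm := hW3 G u h t (fun w hw => hR w (by simp [hw]))
    obtain ⟨Ψ⟩ := nonempty_polyHom (h ^ d.i) u (by rw [hi, pow_one]; exact hcomm)
    refine ⟨field_hom d.D d.i Ψ hP hM X (by rw [aeval_X, hxg]) ?_, ?_⟩
    · rw [Ψ.ev_eq, show (X : ℤ[X]) = X ^ 1 from (pow_one X).symm, Ψ.X_pow, cj, hi, pow_one, pow_one]
    · cases psl
      · simp only [Bool.false_eq_true, if_false] at ht2 ⊢
        have hc := pow_inverted hht m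
        have h1 : t * h ^ m * t⁻¹ = h ^ m := by rw [← ht2]; group
        rw [h1] at hc
        rw [mul_comm, pow_mul, pow_two]
        exact mul_eq_one_iff_eq_inv.2 hc
      · have := hR (fH ^ m) (by simp)
        rwa [map_pow, e2] at this

theorem exists_gen : ∃ w : Fˣ, ∀ x : Fˣ, x ∈ Subgroup.zpowers w :=
  IsCyclic.exists_generator (α := Fˣ)

theorem units_pow_half {w : Fˣ} (hgen : ∀ x : Fˣ, x ∈ Subgroup.zpowers w) {m : ℕ}
    (hq : Fintype.card F = 2 * m + 1) : w ^ m = -1 ∧ orderOf w = 2 * m := by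
  have ho : orderOf w = 2 * m := by
    rw [orderOf_eq_card_of_forall_mem_zpowers hgen, Nat.card_units, Nat.card_eq_fintype_card, hq]
    omega
  refine ⟨?_, ho⟩
  have hm : 0 < m := by have := Fintype.one_lt_card (α := F); omega
  have h1 : ((w ^ m : Fˣ) : F) * ((w ^ m : Fˣ) : F) = 1 := by
    rw [← Units.val_mul, ← pow_add, ← two_mul, ← ho, pow_orderOf_eq_one, Units.val_one]
  rcases mul_self_eq_one_iff.1 h1 with h | h
  · exact absurd (Units.ext h : w ^ m = 1) (pow_ne_one_of_lt_orderOf (by omega) (by omega))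
  · exact Units.ext (by rw [h, Units.val_neg, Units.val_one])

theorem exists_data_core [CharP F p] [Fact p.Prime] (hp : p ≠ 2) {m : ℕ}
    (hq : Fintype.card F = 2 * m + 1) :
    ∃ d : Data F p, ∀ {T : Type _} [Group T] (f : SL(2, F) →* T) (psl : Bool),
      (psl = true → f (dSL d.w) ^ m = 1) →
      HasCore d.g (f (uu 1)) (f (dSL d.w)) (f wSL) (if psl then m else 2 * m) (if psl then 0 else m)
        (d.rel3 1 fU fH fT) := by
  classical
  obtain ⟨w, hw⟩ := exists_gen (F := F)
  obtain ⟨e, -, hF⟩ := FiniteField.card F p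
  have hodd : Odd p := (Fact.out (p := p.Prime)).odd_of_ne_two hp
  have hgi : ∀ y : F, y ≠ 0 → ∃ i : ℕ, ((w : F) * w) ^ i = y * y := by
    intro y hy
    have h := hw (Units.mk0 y hy)
    rw [← mem_powers_iff_mem_zpowers] at h
    obtain ⟨i, hi⟩ := h
    refine ⟨i, ?_⟩
    have hi' : (w : F) ^ i = y := by
      rw [← Units.val_pow_eq_pow_val, show w ^ i = Units.mk0 y hy from hi]; rfl
    rw [mul_pow, hi']
  rcases Nat.lt_or_ge (e : ℕ) 2 with he | he
  · have he1 : (e : ℕ) = 1 := by have := e.pos; omega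
    rw [he1, pow_one] at hF
    obtain ⟨D⟩ := exists_polyData (p := p) (e := 1) (x := (w : F) * w) (by rw [pow_one]; exact hF)
      (fun d h1 h2 => absurd h2 (by omega))
    let d : Data F p := ⟨w, hw, (w : F) * w, 1, pow_one _, D⟩
    refine ⟨d, fun f psl hm => core_small d rfl (Or.inl ?_) f psl hm⟩
    letI : Algebra (ZMod p) F := ZMod.algebra F p
    have hbij : Function.Bijective (algebraMap (ZMod p) F) :=
      (Fintype.bijective_iff_injective_and_card _).2 ⟨(algebraMap (ZMod p) F).injective, by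
        rw [ZMod.card, hF]⟩
    obtain ⟨z, hz⟩ := hbij.2 d.g
    exact ⟨z.val, by rw [← hz, ← map_natCast (algebraMap (ZMod p) F), ZMod.natCast_zmod_val]⟩
  by_cases h9 : Fintype.card F = 9
  · have he2 : p ^ (e : ℕ) = 9 := by rw [← hF, h9]
    have hp3 : p = 3 := by
      have h3 : p ∣ 3 ^ 2 := by
        rw [show (3 : ℕ) ^ 2 = 9 from rfl, ← he2]; exact dvd_pow_self p (by omega)
      exact (Nat.prime_dvd_prime_iff_eq Fact.out Nat.prime_three).1
        ((Fact.out (p := p.Prime)).dvd_of_dvd_pow h3)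
    subst hp3
    have hee : (e : ℕ) = 2 := by
      have : (3 : ℕ) ^ (e : ℕ) = 3 ^ 2 := he2
      exact Nat.pow_right_injective (by norm_num) this
    rw [hee] at hF
    obtain ⟨h4, hord⟩ := units_pow_half hw (m := m) hq
    have hm4 : m = 4 := by omega
    subst hm4
    have hneg : ((w : F) * w) * ((w : F) * w) = -1 := by
      have := congrArg Units.val h4
      rw [Units.val_pow_eq_pow_val, Units.val_neg, Units.val_one] at this
      rw [← this]; ring
    obtain ⟨D⟩ := exists_polyData (p := 3) (e := 2) (x := (w : F) * w) hF (fun d h1 h2 => by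
      obtain rfl : d = 1 := by omega
      intro h
      set g := (w : F) * w
      have hg0 : g ≠ 0 := mul_ne_zero w.ne_zero w.ne_zero
      have h' : g * g = 1 := mul_left_cancel₀ hg0 (by rw [mul_one]; linear_combination h)
      exact (Ring.two_ne_zero (R := F) (by rw [ringChar.eq F 3]; norm_num))
        (by linear_combination hneg - h'))
    exact ⟨⟨w, hw, (w : F) * w, 1, pow_one _, D⟩, fun f psl hm =>
      core_small _ rfl (Or.inr hneg) f psl hm⟩
  · obtain ⟨x, y, z, hy, hz, hxy, hxz, hx⟩ := exists_good p e hp hF he h9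
    obtain ⟨i, hi⟩ := hgi y hy
    obtain ⟨k, hk⟩ := hgi z hz
    obtain ⟨D⟩ := exists_polyData (p := p) hF hx
    exact ⟨⟨w, hw, x, i, hi.trans hxy.symm, D⟩, fun f psl hm =>
      core_general _ hodd (k := k) (hk.trans hxz.symm) f psl hm⟩

theorem center_dSL_neg_one : (dSL (-1 : Fˣ) : SL(2, F)) ∈ Subgroup.center SL(2, F) := by
  rw [Subgroup.mem_center_iff]
  intro g
  apply Subtype.ext
  show (g : Matrix (Fin 2) (Fin 2) F) * _ = _ * (g : Matrix (Fin 2) (Fin 2) F)
  have : ((dSL (-1 : Fˣ) : SL(2, F)) : Matrix (Fin 2) (Fin 2) F) = -1 := by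
    show !![((-1 : Fˣ) : F), 0; 0, (((-1)⁻¹ : Fˣ) : F)] = -1
    simp [Matrix.one_fin_two]
  rw [this]
  simp

theorem presentation_odd [CharP F p] [Fact p.Prime] (hp : p ≠ 2) :
    (∃ rels : Finset (FreeGroup (Fin 3)), rels.card ≤ 9 ∧
      Nonempty (PresentedGroup (↑rels : Set (FreeGroup (Fin 3))) ≃* SL(2, F))) ∧
    (∃ rels : Finset (FreeGroup (Fin 3)), rels.card ≤ 9 ∧
      Nonempty (PresentedGroup (↑rels : Set (FreeGroup (Fin 3))) ≃*
        Matrix.ProjectiveSpecialLinearGroup (Fin 2) F)) := by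
  classical
  obtain ⟨m, hq⟩ : ∃ m, Fintype.card F = 2 * m + 1 := by
    obtain ⟨e, -, hF⟩ := FiniteField.card F p
    obtain ⟨m, hm⟩ := (((Fact.out (p := p.Prime)).odd_of_ne_two hp).pow (n := (e : ℕ)))
    exact ⟨m, by rw [hF, hm]⟩
  have hm : 0 < m := by have := Fintype.one_lt_card (α := F); omega
  obtain ⟨d, hd⟩ := exists_data_core (F := F) (p := p) hp hq
  obtain ⟨hhalf, hord⟩ := units_pow_half d.gen hq
  have hgm : d.g ^ m = 1 := by
    have h := congrArg Units.val hhalf
    rw [Units.val_pow_eq_pow_val, Units.val_neg, Units.val_one] at h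
    rw [Data.g, mul_pow, h]; ring
  have hcardSL : Nat.card SL(2, F) = Fintype.card F * (2 * m) * (Fintype.card F + 1) := by
    rw [CfsgLib.Linear.card_SL_two, hq, mul_assoc]
    congr 1
    have : (2 * m + 1) ^ 2 = 2 * m * (2 * m + 1 + 1) + 1 := by ring
    omega
  constructor
  · obtain ⟨R, hlen, hR, hcore⟩ := hd (MonoidHom.id SL(2, F)) false (by simp)
    refine assemble d (MonoidHom.id SL(2, F)) Function.surjective_id (2 * m) m (by omega)
      (by rw [mul_comm, pow_mul, hgm, one_pow]) hcardSL ?_ R hlen hR ?_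
    · simp only [MonoidHom.id_apply]
      rw [← map_pow, hhalf, wSL_sq]
    · intro G _ u h t hw' hht ht2 h3
      exact hcore G u h t hw' hht ht2 (by rw [Data.lift_rel3]; exact h3)
  · let π := QuotientGroup.mk' (Subgroup.center SL(2, F))
    have hker : π (dSL (-1 : Fˣ)) = 1 := by
      rw [← MonoidHom.mem_ker, QuotientGroup.ker_mk']; exact center_dSL_neg_one
    have hDm : π (dSL d.w) ^ m = 1 := by rw [← map_pow, ← map_pow, hhalf]; exact hker
    obtain ⟨R, hlen, hR, hcore⟩ := hd π true (fun _ => hDm)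
    refine assemble d π (QuotientGroup.mk'_surjective _) m 0 hm hgm ?_ ?_ R hlen hR ?_
    · have h := CfsgLib.Linear.card_PSL_mul (n := Fin 2) (F := F)
      rw [hcardSL, Fintype.card_fin, show Fintype.card F - 1 = 2 * m by omega,
        Nat.gcd_eq_left (dvd_mul_right 2 m),
        show Fintype.card F * (2 * m) * (Fintype.card F + 1) =
          2 * (Fintype.card F * m * (Fintype.card F + 1)) by ring] at h
      exact Nat.eq_of_mul_eq_mul_left two_pos h
    · rw [pow_zero, ← map_mul, wSL_sq]; exact hker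
    · intro G _ u h t hw' hht ht2 h3
      exact hcore G u h t hw' hht ht2 (by rw [Data.lift_rel3]; exact h3)

end CfsgLib.PresentSL2
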